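import Cfsg.Agent.L43.U3
import Cfsg.Agent.L43.M4P
import Cfsg.Agent.L43.M4Q
import Cfsg.Agent.Char.A9Fin

/-! The case with further fusion: facts on the model. -/

set_option autoImplicit false
set_option linter.unusedSectionVars false
set_option maxRecDepth 100000
set_option synthInstance.maxSize 4000

namespace Cfsg.Agent.L43

open Subgroup Cfsg.Agent.Local Cfsg.Agent.Mat Cfsg.Agent.HSR Cfsg.Agent.Char Cfsg.Agent.Char.A9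

attribute [local irreducible] cmul cinv msM msK

/-- A vector. -/
def eV (L : List X) (v : V27) : X := L.getD (v.1.val + 3 * v.2.1.val + 9 * v.2.2.val) 1

/-- A monomial matrix. -/
def sI (L : List Y) (i : I24) : Y := L.getD (8 * i.1.val + 4 * i.2.1.toNat + 2 * i.2.2.1.toNat + i.2.2.2.toNat) 1

/-- Facts on a non-singular element of the Thompson subgroup. -/
def QF (x c : X) (A : List X) (B : List Y) : Prop :=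
  ((C3 x ∧ x ≠ 1) ∧ (∀ v, Cm (ι (eV A v)) (ι x)) ∧ (∀ i, Cm (sI B i) (ι x)) ∧ sI B i0 = 1) ∧
  ((∀ u v, E [eV A (av u v)] [eV A u, eV A v]) ∧ (∀ i k, E [sI B (mi i k)] [sI B i, sI B k]) ∧
    ∀ i v, E [sI B i, ι (eV A v)] [ι (eV A (act i v)), sI B i] ∧
      (Mem (ι (eV A v) * sI B i * 1⁻¹) (P3 (ι x)) → i = i0 ∧ v = 0)) ∧
  ((∀ a ∈ A, ∃ v, a = eV A v) ∧ (∀ b ∈ B, ∃ i, b = sI B i) ∧ ∀ u ∈ P3 x, Cm (ι u) (ι x) ∧ Mem (ι u * 1⁻¹) (P3 (ι x))) ∧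
  (Cm (ι z0) (ι x) ∧ Cm (ι w0) (ι x) ∧ (∃ v, Mem (ι (eV A v) * sI B i0 * (ι z0)⁻¹) (P3 (ι x))) ∧
    (∃ v, Mem (ι (eV A v) * sI B i0 * (ι w0)⁻¹) (P3 (ι x))) ∧ ¬ Mem (ι z0 * 1⁻¹) (P3 (ι x)) ∧
    ¬ ∃ v ∈ P3 (ι z0), Mem (ι w0 * v⁻¹) (P3 (ι x))) ∧
  (Cm (ι c) (ι x) ∧ C3 c ∧ ¬ Mem (ι c * 1⁻¹) (P3 (ι x)) ∧ Mem c K4) ∧
  ∀ v, ∀ u ∈ P3 x, u * eV A v = 1 ∨ Mem (u * eV A v) K0 ∨ Mem (u * eV A v) K1 ∨ Mem (u * eV A v) K2 ∨ Mem (u * eV A v) K3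

theorem qf1 : QF (w0 * y0) (a0 * b0 * (w0 * y0)) EP SP := by unfold QF; decide +kernel

theorem qf2 : QF (w0 * y0⁻¹) (a0 * b0⁻¹ * (w0 * y0⁻¹)) EQ SQ := by unfold QF; decide +kernel

theorem mxf : (∀ i k, ∃ j, mi i j = k) ∧ (∀ i u v, ∃ w, av v (act i w) = u) ∧ ∀ a, mx a (i0, 0) = a := by
  decide +kernel

theorem cjY : IsConj (ι z0) (ι y0) ∧ IsConj (ι (a0 * y0)) (ι (s0 * b0)) :=
  ⟨isConj_iff.mpr ⟨el msK [21], by decide +kernel⟩, isConj_iff.mpr ⟨el msK [21, 17], by decide +kernel⟩⟩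

end Cfsg.Agent.L43
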