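import Cfsg.Agent.L43.F0

/-! The case with further fusion: centralisers of elements of order three. -/

set_option autoImplicit false
set_option linter.unusedSectionVars false
set_option maxRecDepth 100000
set_option synthInstance.maxSize 4000

namespace Cfsg.Agent.L43

open Subgroup Cfsg.Agent.Local Cfsg.Agent.Mat Cfsg.Agent.HSR Cfsg.Agent.Char Cfsg.Agent.Char.A9

attribute [local irreducible] cmul cinv msM msK

variable {G : Type*} [Group G] [Finite G] {Q : Subgroup G} {φ : G → SL23} {F : Y →* G}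

theorem loc_core {H J : Subgroup G} {F : X648 → G} (h : Loc H J F) {z w : G} (zJ : z ∈ J) (wJ : w ∈ J)
    (oz : orderOf z = 3) (w1 : w ∉ zpowers z) (hV : ∀ e ∈ closure {w, z}, e ≠ 1 → centralizer {e} ≤ H) (v : V27) :
    Cfsg.pPrimeCore 3 (centralizer ({F (i0, v)} : Set G)) = ⊥ := by
  have h1 : ∀ j ∈ J, j ∈ normalizer (((Cfsg.pPrimeCore 3 (centralizer ({F (i0, v)} : Set G))).map
      (Subgroup.subtype _) : Subgroup G) : Set G) := fun j hj => mem_normalizer_of_conj_mem (by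
    rintro _ ⟨k, hk, rfl⟩
    exact ⟨_, (inferInstance : (Cfsg.pPrimeCore 3 _).Normal).conj_mem k hk ⟨j, h.le_cent (h.par.mem' v) hj⟩, rfl⟩)
  have h2 : ¬ 3 ∣ Nat.card ((Cfsg.pPrimeCore 3 (centralizer ({F (i0, v)} : Set G))).map (Subgroup.subtype _)) := by
    rw [card_subtype]
    exact (Nat.Prime.coprime_iff_not_dvd Nat.prime_three).mp (coprime_card_pPrimeCore 3).symm
  have h3 := le_of_centralizer_le_of_rank_two Nat.prime_three (h1 w wJ) (h1 z zJ) (h.par.comm w wJ z zJ) (h.cube wJ) oz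
    w1 h2 fun e he e1 => inf_le_right.trans (hV e he e1)
  refine eq_bot_iff.mpr fun k hk => Subtype.ext (P43.eq_one_of_cube h2 ⟨k, hk, rfl⟩ (h.cube (h.cent_J fun j hj => ?_)))
  have h4 := mul_mem (h.norm j hj _ (h3 ⟨k, hk, rfl⟩)) (inv_mem hj)
  refine mul_inv_eq_iff_eq_mul.mp (mul_inv_eq_one.mp (P43.eq_one_of_cube h2 ?_ (h.cube h4)))
  simpa only [mul_assoc, coe_subtype] using mul_mem (mem_map_of_mem (Subgroup.subtype _) hk)
    (conj_mem_of_mem_normalizer (h1 j hj) (inv_mem (mem_map_of_mem (Subgroup.subtype _) hk)))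

theorem leK : (F.comp ι).range ≤ F.range := by rintro _ ⟨x, rfl⟩; exact ⟨_, rfl⟩

namespace St

variable (hF : Function.Injective F) (S : St Q φ (F.comp ι))
include hF S

theorem idxK : ∀ x ∈ F.range, x ^ 3 = 1 → ∃ h ∈ F.range, h⁻¹ * x * h * F (ι z0) = F (ι z0) * (h⁻¹ * x * h) :=
  S.idx hF leK (a := 1040) (by decide) orbTY.1

theorem wzK : WC F.range (F (ι z0)) := S.wcz leK (S.idxK hF) fun i hi e => by
  interval_cases i
  exacts [⟨1, one_mem _, show 1 * F (ι z0) * 1⁻¹ = F (ι z0) by group⟩, conj_map F cjY.1, absurd e S.nz.1,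
    absurd e S.nz.2.1, absurd e S.nz.2.2, absurd (e.trans (conj_map F cjY.2).isConj.symm) S.nz.2.2]

theorem centQ {x c : X} {A : List X} {B : List Y} (h : QF x c A B)
    (hC : ∀ g, g * ι x = ι x * g → g ∈ mulL ((mulL (P3 x) A).map ι) B) : centralizer {F (ι x)} ≤ F.range := by
  obtain ⟨⟨a0, a1, a2, a3⟩, ⟨b1, b2, b3⟩, ⟨c1, c2, c3⟩, ⟨d1, d2, ⟨vz, d3⟩, ⟨vw, d4⟩, d5, d6⟩, ⟨f1, f2, f3, f4⟩, g1⟩ := h
  obtain ⟨N, _, hf⟩ := exists_cq (z := F (ι x)) (S.ord a0)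
  have e := fun a b => res_eq hF hf (a := a) (b := b)
  generalize QuotientGroup.mk' N = f at *
  have e1 : ∀ {a b : centralizer ({ι x} : Set Y)}, a.1 = b.1 → f.comp (res F (ι x)) a = f.comp (res F (ι x)) b :=
    fun e => congrArg _ (Subtype.ext e)
  let D : X648 → _ := fun a => f.comp (res F (ι x)) (mc (ι (eV A a.2)) (a1 _) * mc (sI B a.1) (a2 _))
  have m1 : ∀ a b, D (mx a b) = D a * D b := by
    rintro ⟨i, v⟩ ⟨k, w⟩
    rw [← map_mul]
    refine e1 ?_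
    have p1 := b1 v (act i w)
    have p2 := b2 i k
    have p3 := (b3 i w).1
    simp only [E, List.prod_cons, List.prod_nil, mul_one] at p1 p2 p3
    change ι (eV A (av v (act i w))) * sI B (mi i k) = ι (eV A v) * sI B i * (ι (eV A w) * sI B k)
    rw [p1, p2, map_mul, mul_assoc, mul_assoc, ← mul_assoc (sI B i), p3, mul_assoc]
  have m2 : Function.Injective D := by
    rintro ⟨i, v⟩ ⟨k, u⟩ h
    obtain ⟨j, rfl⟩ := mxf.1 i k
    obtain ⟨w, rfl⟩ := mxf.2.1 i u v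
    have p1 := h.trans (m1 (i, v) (j, w))
    rw [left_eq_mul, ← map_one (f.comp (res F (ι x))), e] at p1
    obtain ⟨rfl, rfl⟩ := (b3 j w).2 p1
    exact (mxf.2.2 (i, v)).symm
  let η : Multiplicative V27 →* _ := MonoidHom.mk' (fun v => D (i0, v.toAdd)) fun u v => by
    rw [← m1, mx_jj]; rfl
  have wz := res_wc hF hf (a := mc (ι z0) d1) (S.wzK hF)
  have zJ : f.comp (res F (ι x)) (mc (ι z0) d1) ∈ η.range := ⟨.ofAdd vz, (e _ _).mpr d3⟩
  have L : Loc (f.comp (res F (ι x))).range η.range D := ⟨⟨m1, m2, fun g => ⟨?_, fun ⟨a, h⟩ => ⟨_, h⟩⟩⟩,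
    ⟨fun u v => by rw [← m1, mx_jj], fun u v h => (Prod.ext_iff.mp (m2 h)).2,
      fun g => ⟨fun ⟨v, h⟩ => ⟨_, h⟩, fun ⟨v, h⟩ => ⟨.ofAdd v, h⟩⟩⟩, fun g hg => wz g (by
        obtain ⟨v, h⟩ := hg _ zJ
        exact ⟨_, h⟩)⟩
  swap
  · rintro ⟨k, rfl⟩
    obtain ⟨_, p1, b, p2, p3⟩ := mem_mulL.mp (hC k (mem_centralizer_singleton_iff.mp k.2))
    obtain ⟨_, p4, rfl⟩ := List.mem_map.mp p1
    obtain ⟨u, p5, a, p6, rfl⟩ := mem_mulL.mp p4
    obtain ⟨v, rfl⟩ := c1 a p6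
    obtain ⟨i, rfl⟩ := c2 b p2
    refine ⟨(i, v), ?_⟩
    rw [← one_mul (D _), ← map_one (f.comp (res F (ι x))), ← (e (mc (ι u) (c3 u p5).1) 1).mpr (c3 u p5).2, ← map_mul]
    exact e1 (by rw [p3, map_mul, mul_assoc]; rfl)
  have oz : orderOf (f.comp (res F (ι x)) (mc (ι z0) d1)) = 3 := orderOf_eq_prime (L.cube zJ)
    (by rwa [← map_one (f.comp (res F (ι x))), Ne, e])
  have wJ : f.comp (res F (ι x)) (mc (ι w0) d2) ∈ η.range := ⟨.ofAdd vw, (e _ _).mpr d4⟩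
  refine res_top hF hf ((L.eq_top_or fun v _ => loc_core L zJ wJ oz (by rwa [res_zp hF hf oz]) (fun u hu u1 => ?_)
    v).resolve_right fun ⟨ε⟩ => ?_)
  · obtain ⟨i, hi, j, hj, rfl⟩ := G23.mem_pair (L.cube wJ) (L.cube zJ) (L.par.comm _ wJ _ zJ) hu
    rw [← map_pow, ← map_pow, ← map_mul] at u1 ⊢
    have p1 : (mc (ι w0) d2 ^ i * mc (ι z0) d1 ^ j).1 = ι (w0 ^ i * z0 ^ j) := by simp [mc]
    refine fun g hg => (res_wc hF hf ?_).cent ⟨_, rfl⟩ (mem_centralizer_singleton_iff.mp hg)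
    rw [p1]
    refine (S.wzK hF).of_hc (conj_map F (ι.map_isConj (cls0.mpr ((v1.2.2.2.2 i hi j hj).resolve_left fun e' => u1 ?_))))
    rw [e1 (b := 1) (by rw [p1, e', map_one]; rfl), map_one]
  have k1 : ∀ a, a ^ 3 = 1 → a ≠ 1 → ∃ i, IsConj (ε.symm (c9 i)) a := fun a p1 p2 => by
    obtain ⟨i, p3⟩ := c9_cls (ε a) (by rw [← map_pow, p1, map_one]) (by simpa using p2)
    exact ⟨i, by simpa using ε.symm.toMonoidHom.map_isConj p3⟩
  have k2 := fun v hv => k1 (D (i0, v)) (L.cube (L.par.mem' v)) (L.par.ne_one hv)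
  obtain ⟨v, k3⟩ : ∃ v, IsConj (f.comp (res F (ι x)) (mc (ι c) f1)) (D (i0, v)) := by
    obtain ⟨i1, p1⟩ := k2 (0, 0, 1) (by decide)
    obtain ⟨i2, p2⟩ := k2 (1, 1, 0) (by decide)
    obtain ⟨i3, p3⟩ := k2 (1, 1, 1) (by decide)
    obtain ⟨i4, p4⟩ := k1 (f.comp (res F (ι x)) (mc (ι c) f1)) (by
      rw [← map_pow, e1 (b := 1) (by rw [coe_pow, mc, ← map_pow, f2, map_one]; rfl), map_one])
      (by rwa [← map_one (f.comp (res F (ι x))), Ne, e])
    rcases (by decide : ∀ a b c d : Fin 3, a = b ∨ a = c ∨ b = c ∨ d = a ∨ d = b ∨ d = c) i1 i2 i3 i4 with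
      rfl | rfl | rfl | rfl | rfl | rfl
    exacts [absurd ((L.isConj_j _ _).mp (p1.symm.trans p2)) (by decide),
      absurd ((L.isConj_j _ _).mp (p1.symm.trans p3)) (by decide),
      absurd ((L.isConj_j _ _).mp (p2.symm.trans p3)) (by decide), ⟨_, p4.symm.trans p1⟩, ⟨_, p4.symm.trans p2⟩,
      ⟨_, p4.symm.trans p3⟩]
  obtain ⟨g, k4⟩ := isConj_iff.mp k3
  obtain ⟨g, rfl⟩ := hf.surj g
  rw [MonoidHom.comp_apply, ← map_inv, ← map_mul, ← map_mul] at k4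
  have k5 := hf.eq_iff.mp k4
  obtain ⟨u, k6, k7⟩ : ∃ u ∈ P3 x, IsConj (F (ι c)) (F (ι (u * eV A v))) := by
    obtain ⟨_, ⟨u, rfl⟩, k6⟩ : ∃ y ∈ (F.comp ι).range, y = _ := ⟨_, zpowers_le.mpr (MonoidHom.mem_range.mpr ⟨x, rfl⟩) k5, rfl⟩
    refine ⟨u, (zp_iff S.inj hf.ord).mp (k6 ▸ k5), isConj_iff.mpr ⟨g, ?_⟩⟩
    rw [map_mul, map_mul, ← MonoidHom.comp_apply F ι u, k6]
    simp [res_val, mc, a3]
  replace k7 := (conj_map (F.comp ι) (cjs_conj _ (K4_eq ▸ f4))).isConj.trans k7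
  rcases g1 v u k6 with p | p | p | p | p
  · rw [p, map_one, map_one, isConj_one_left] at k7
    exact absurd (S.inj (k7.trans (map_one _).symm)) (by decide +kernel)
  · exact S.nz.2.2 ((conj_map (F.comp ι) (cls0.mpr p)).isConj.trans k7.symm)
  · exact S.nz.2.2 ((conj_map F cjY.1).isConj.trans ((conj_map (F.comp ι) (cjs_conj _ (K1_eq ▸ p))).isConj.trans k7.symm))
  · exact S.ndp pf1.2.2.2.1 ((conj_map (F.comp ι) (cjs_conj _ (K2_eq ▸ p))).isConj.trans k7.symm)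
  · exact S.ndp pf2.2.2.2.1 ((conj_map (F.comp ι) (cjs_conj _ (K3_eq ▸ p))).isConj.trans k7.symm)

theorem allK : ∀ u ∈ F.range, orderOf u = 3 → WC F.range u := S.all3 leK (S.idxK hF) (S.wzK hF) fun i hi => by
  interval_cases i
  exacts [S.czr.trans leK, fun g hg => ((S.wzK hF).of_hc (conj_map F cjY.1)).cent ⟨_, rfl⟩
    (mem_centralizer_singleton_iff.mp hg), S.centQ hF qf1 (JP_eq ▸ orbP.2.2), S.centQ hF qf2 (JQ_eq ▸ orbQ.2.2),
    S.centD.trans leK, fun g hg => ((wc_of_cent (S.wzK hF) (S.idxK hF) (S.c3 (by decide +kernel))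
      (S.centD.trans leK)).of_hc (conj_map F cjY.2)).cent ⟨_, rfl⟩ (mem_centralizer_singleton_iff.mp hg)]

end St

end Cfsg.Agent.L43
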