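import Cfsg.Agent.L43.F1
import Cfsg.Agent.L43.F2
import Cfsg.Agent.P43.Mod2

/-! The case with further fusion: the group is the linear group. -/

set_option autoImplicit false
set_option linter.unusedSectionVars false
set_option maxRecDepth 100000
set_option synthInstance.maxSize 4000

namespace Cfsg.Agent.L43

open Subgroup Cfsg.Agent.Local Cfsg.Agent.Mat Cfsg.Agent.HSR Cfsg.Agent.Char

attribute [local irreducible] cmul cinv msM msK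

variable {G : Type*} [Group G] [Finite G] {Q : Subgroup G} {φ : G → SL23} {F : Y →* G}

theorem card_P9 : Nat.card P9 = 9 := by
  classical
  rw [← M11.ncard_coe, show (P9 : Set X) = (mulL (P3 z0) (P3 s0)).toFinset from Set.ext fun _ => List.mem_toFinset.symm,
    Set.ncard_coe_finset, List.toFinset_card_of_nodup (by decide +kernel)]
  rfl

namespace St

variable (hF : Function.Injective F) (S : St Q φ (F.comp ι))
include hF S

theorem ordY {x : Y} (h : C3 x) (h1 : x ≠ 1) : orderOf (F x) = 3 := (orderOf_injective F hF x).trans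
  (orderOf_eq_prime h h1)

theorem lt {x : Y} (h : C3 x) (h1 : x ≠ 1) {g : G} (hg : g ∈ centralizer {F (ι t0)}) (e : g * F x * g⁻¹ ∈ F.range) :
    ∃ k ∈ LT, g = F k := by
  obtain ⟨k, rfl⟩ := S.allK hF _ ⟨x, rfl⟩ (S.ordY hF h h1) g e
  exact ⟨k, orbTY.2.2 k (cm_map hF (mem_centralizer_singleton_iff.mp hg)), rfl⟩

theorem hfs {x : Y} {L : List Y} (h : HF x L) : (subOf L h.1 h.2.1).map F ≤ centralizer {F (ι t0)} ∧
    F q0 ∈ (subOf L h.1 h.2.1).map F ∧ F (ι t0) ∈ (subOf L h.1 h.2.1).map F ∧ F x ∉ (subOf L h.1 h.2.1).map F ∧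
    (∀ a ∈ (subOf L h.1 h.2.1).map F, a * F x = F x * a) ∧
    (∀ g ∈ centralizer {F (ι t0)}, g * F x = F x * g → ∃ i : ℕ, ∃ a ∈ (subOf L h.1 h.2.1).map F, g = F x ^ i * a) ∧
    (∀ a ∈ (subOf L h.1 h.2.1).map F, a * F q0 = F q0 * a → a ∈ zpowers (F q0) ∨ a * F (ι t0) ∈ zpowers (F q0)) ∧
    ∃ g ∈ centralizer {F (ι t0)}, g * F x * g⁻¹ = (F x)⁻¹ := by
  have o := S.ordY hF tf2.2.2.2.2.2.1.1 tf2.2.2.2.2.2.1.2
  obtain ⟨h1, h2, h3, h4, h5, h6, h7, h8, h9, h10⟩ := h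
  refine ⟨?_, ⟨_, h3, rfl⟩, ⟨_, h4, rfl⟩, fun e => h5 ((mem_map_iff_mem hF).mp e), ?_, fun g hg e => ?_, ?_,
    F (ι u0), mem_centralizer_singleton_iff.mpr (map_cm F hf3.2.2.1), by
      rw [← map_inv F, ← map_inv F, ← map_mul F, ← map_mul F, h8]⟩
  · rintro _ ⟨a, ha, rfl⟩
    exact mem_centralizer_singleton_iff.mpr (map_cm F (h6 a ha).1)
  · rintro _ ⟨a, ha, rfl⟩
    exact map_cm F (h6 a ha).2.1
  · obtain ⟨k, hk, rfl⟩ := S.lt hF h9 h10 hg (by rw [cj_of_cm e]; exact ⟨x, rfl⟩)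
    obtain ⟨i, -, hi⟩ := h7 k hk (cm_map hF e)
    exact ⟨i, _, ⟨_, hi, rfl⟩, by simp⟩
  · rintro _ ⟨a, ha, rfl⟩ e
    rw [← map_mul, zp_iff hF o, zp_iff hF o]
    exact (h6 a ha).2.2 (cm_map hF e)

theorem ninv {x : Y} (h : C3 x) (h1 : x ≠ 1) {k : G} (hk : k ∈ centralizer {F (ι t0)})
    (e : k * F r0 * k⁻¹ * F x * (k * F r0 * k⁻¹)⁻¹ = (F x)⁻¹) :
    ∃ c ∈ LT, k * F r0 * k⁻¹ = F c ∧ C2 c ∧ Iv c x ∧ c ∉ I1 := by
  obtain ⟨c, h2, h3⟩ := S.lt hF h h1 (mul_mem (mul_mem hk (mem_centralizer_singleton_iff.mpr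
    (map_cm F tf2.2.2.2.2.2.2.2.2.2.1))) (inv_mem hk)) (e ▸ inv_mem (F.mem_range.mpr ⟨x, rfl⟩))
  have h4 : C2 c := hF (by rw [map_mul, ← h3, conj_mul, ← map_mul, tf2.2.1]; simp)
  refine ⟨c, h2, h3, h4, hF (by rwa [map_mul, map_mul, map_inv, map_inv, ← h3]), fun h5 => ntr ?_⟩
  obtain ⟨y, h6, h7⟩ := i1Y c h4
  have o := (orderOf_injective F hF y).trans h6
  obtain ⟨_, ⟨j, rfl⟩, -, h8⟩ := conj2 (L := ⊤) (fun g _ => S.allK hF _ ⟨p0, rfl⟩ (S.ordY hF tf2.2.2.2.2.1.1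
    tf2.2.2.2.2.1.2) g) (fun g _ => S.allK hF _ ⟨y, rfl⟩ o g) trivial ⟨y, rfl⟩ trivial
    (by rw [← map_pow, tf2.2.2.2.2.1.1, map_one]) (o ▸ pow_orderOf_eq_one _) (mem_top k)
    (map_cm F tf2.2.2.2.2.2.2.1).symm (h3 ▸ (map_cm F h7).symm)
  exact (cj1 h5).trans (isConj_iff.mpr ⟨j, hF (by rw [map_mul, map_mul, map_inv, h8, h3])⟩).symm

theorem centTK : centralizer {F (ι t0)} ≤ F.range := by
  obtain ⟨t1, t2, -, -, ⟨t3, t4⟩, ⟨t5, t6⟩, t7, t8, t9, t10, t11, t12⟩ := tf2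
  obtain ⟨a1, a2, a3, a4, a5, a6, a7, a8⟩ := S.hfs hF hf1
  obtain ⟨b1, b2, b3, b4, b5, b6, b7, b8⟩ := S.hfs hF hf2
  have oq := S.ordY hF t5 t6
  have wq := S.allK hF _ ⟨q0, rfl⟩ oq
  have qL := mem_centralizer_singleton_iff.mpr (map_cm F t9)
  have pL := mem_centralizer_singleton_iff.mpr (map_cm F t8)
  have p3 : F p0 ^ 3 = 1 := by rw [← map_pow, t3, map_one]
  have q3 : F q0 ^ 3 = 1 := by rw [← map_pow, t5, map_one]
  have rq : F r0 * F q0 * (F r0)⁻¹ = (F q0)⁻¹ := by rw [← map_inv, ← map_inv, ← map_mul, ← map_mul, t11]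
  rw [map_mul] at b4 b5 b6 b8
  obtain ⟨M, m1, m2, m3, m4, m5⟩ := P43.bs_mod S.R.tt a1 b1 pL (mem_centralizer_singleton_iff.mpr (map_cm F t10)) p3 oq
    a2 b2 a3 b3 a4 a5 a6 a7 ⟨_, ⟨r0, hf3.1, rfl⟩, rq⟩ b4 b5 b6 b7 (by
      rintro _ ⟨a, ha, rfl⟩ e
      exact hf3.2.1 a ha (hF (by rwa [map_mul, map_mul, map_inv, map_inv])))
    (fun g e => S.nz.1 (((conj_map (F.comp ι) (cls0.mpr (by decide +kernel : Mem z0⁻¹ K0))).isConj.trans
      (isConj_iff.mpr ⟨g, by rwa [← map_mul, t12, p0] at e⟩).symm).trans (conj_map (F.comp ι) (cjs_conj _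
        (K2_eq ▸ (by decide +kernel : Mem (z0 * s0⁻¹) K2)))).isConj.symm)) a8 b8
    (by rw [← map_mul, t2, map_one]) (fun k hk e => by
      obtain ⟨c, h1, h2, h3, h4, h5⟩ := S.ninv hF t3 t4 hk e
      obtain ⟨_, ⟨j, rfl⟩, h6, h7⟩ := conj2 (fun g _ => S.allK hF _ ⟨p0, rfl⟩ (S.ordY hF t3 t4) g) (fun g _ => wq g) pL
        ⟨q0, rfl⟩ qL p3 q3 hk (map_cm F t7).symm
        (h2 ▸ (map_cm F ((((hf3.2.2.2 c h1).2.1 h3).1 h4).resolve_left h5)).symm)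
      refine (hf3.2.2.2 j (orbTY.2.2 j (cm_map hF (mem_centralizer_singleton_iff.mp h6)))).1 ?_
      rwa [show j * r0 * j⁻¹ = c from hF (by rw [map_mul, map_mul, map_inv, h7, h2])]) fun k hk e => by
      obtain ⟨c, h1, -, h3, h4, h5⟩ := S.ninv hF hf2.2.2.2.2.2.2.2.2.1 hf2.2.2.2.2.2.2.2.2.2 hk (by rwa [map_mul])
      exact h5 (((hf3.2.2.2 c h1).2.1 h3).2 h4)
  have h1 : ∀ x ∈ centralizer {F (ι t0)}, x ^ 3 = 1 → ∀ g ∈ M, g * x * g⁻¹ = x⁻¹ → x ∈ M := fun x hx x3 g hg e => by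
    have := mul_mem hg (conj_mem_of_mem_normalizer (m2 hx) (inv_mem hg))
    rwa [← mul_assoc, ← mul_assoc, e, ← mul_inv_rev, inv_eq_of_mul_eq_one_right ((pow_three' x).symm.trans x3)] at this
  have qM := h1 _ qL q3 _ m4 rq
  have h2 : P9.map (F.comp ι) ≤ centralizer {F (ι t0)} := by
    rintro _ ⟨x, hx, rfl⟩
    exact mem_centralizer_singleton_iff.mpr (map_cm (F.comp ι) (p9.1 x hx).2.1)
  have h3 : Nat.card (P9.map (F.comp ι)) = 9 := (card_map_of_injective S.inj).trans card_P9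
  obtain ⟨K, -, -, k1, k2, k3⟩ := P43.sct_sec oq qM m3 S.R.tt (fun g hg => mem_centralizer_singleton_iff.mp (m1 hg))
    (fun g hg e => by
      obtain ⟨k, hk, rfl⟩ := S.lt hF t5 t6 (m1 hg) (by rw [cj_of_cm e]; exact ⟨_, rfl⟩)
      rcases (hf3.2.2.2 k hk).2.2 (cm_map hF e) with h | h | h | ⟨v, h, h'⟩
      · exact .inl ((zp_iff hF oq).mpr h)
      · exact .inr (map_mul F _ _ ▸ (zp_iff hF oq).mpr h)
      · exact absurd (h1 _ pL p3 _ hg (by rw [← map_inv, ← map_inv, ← map_mul, ← map_mul, h])) m5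
      · have := mul_mem (mul_mem hg hg) (zpowers_le.mpr qM ((zp_iff hF oq).mpr h))
        rw [← map_mul, ← map_mul] at this
        rcases h' with h' | h' <;> rw [h'] at this
        exacts [absurd this m5, absurd (inv_mem_iff.mp (map_inv F _ ▸ this)) m5])
    (IsPGroup.of_card (n := 2) h3) (h2.trans m2)
  have h4 := S.rank2 leK (S.allK hF) k2 (m2.trans k1)
  rcases k3 with ⟨k3, -⟩ | ⟨-, k3⟩
  · refine fun g hg => wq g (wq _ ?_)
    rcases k3 _ (conj_mem_of_mem_normalizer (m2 hg) qM) with e | e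
    exacts [(F.range.mul_mem_cancel_right (inv_mem ⟨q0, rfl⟩)).mp (h4 e),
      (F.range.mul_mem_cancel_right ⟨q0, rfl⟩).mp (h4 e)]
  · obtain ⟨_, ⟨d, hd, rfl⟩, d1, g, hg, e, h5⟩ := k3 h3.symm.dvd
    obtain ⟨k, rfl⟩ := (S.allK hF _ ⟨_, rfl⟩ (orderOf_eq_prime (S.c3 (p9.1 d hd).1) d1)).cent ⟨_, rfl⟩ e
    have h6 := orderOf_dvd_card_of_mem (mem_centralizer_singleton_iff.mpr
      (cm_map hF (mem_centralizer_singleton_iff.mp (m1 hg))))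
    rw [orbTY.2.1, ← orderOf_injective F hF] at h6
    rcases h5 with h5 | h5 <;> exact absurd (h5.trans h6) (by decide)

theorem topK : Nonempty (G ≃* Y) :=
  ⟨(MulEquiv.ofBijective F ⟨hF, MonoidHom.range_eq_top.mp (edY.top hF (S.allK hF) (S.centTK hF))⟩).symm⟩

end St

theorem main {z x : G} (H : Hyp z Q φ) (hx : x * z * x⁻¹ ∈ Q) (x1 : x * z * x⁻¹ ∉ zpowers z) :
    Nonempty (G ≃* Y) ∨ Nonempty (G ≃* X) := by
  obtain ⟨w, y, a, b, s, t, u, n, m, R⟩ := (H.frame hx x1).2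
  rcases R.cases H with ⟨F, S, h⟩ | ⟨F, h, S⟩
  exacts [.inr (S.topU h), .inl (S.topK h)]

end Cfsg.Agent.L43
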