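import Cfsg.Agent.L43.Frame4
import Cfsg.Agent.P43.Delta
import Cfsg.Agent.HSR.Tools

/-! General lemmas on weakly closed elements of order three. -/

set_option autoImplicit false
set_option linter.unusedSectionVars false

namespace Cfsg.Agent.L43

open Subgroup Cfsg.Agent.Local Cfsg.Agent.Char

variable {G : Type*} [Group G] [Finite G] {H L T : Subgroup G} {c c' x g z e : G}

theorem pg3 (h : c ^ 3 = 1) : IsPGroup 3 (zpowers c) :=
  IsPGroup.of_card_dvd_pow (n := 1) (by rw [Nat.card_zpowers, pow_one]; exact orderOf_dvd_of_pow_eq_one h)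

theorem conj2 (h1 : ∀ g ∈ L, g * c * g⁻¹ ∈ H → g ∈ H) (h2 : ∀ g ∈ L, g * c' * g⁻¹ ∈ H → g ∈ H) (cL : c ∈ L)
    (cH' : c' ∈ H) (cL' : c' ∈ L) (c3 : c ^ 3 = 1) (c3' : c' ^ 3 = 1) (hg : g ∈ L) (hx : c * x = x * c)
    (hx' : c' * (g * x * g⁻¹) = g * x * g⁻¹ * c') : ∃ h ∈ H, h ∈ L ∧ h * x * h⁻¹ = g * x * g⁻¹ := by
  obtain ⟨S, hS, h3⟩ := exists_isSylowIn_ge (N := L ⊓ centralizer {g * x * g⁻¹}) (pg3 c3')
    (zpowers_le.mpr (mem_inf.mpr ⟨cL', mem_centralizer_singleton_iff.mpr hx'⟩))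
  have h4 : S ≤ H := by
    by_contra hn
    obtain ⟨y, hy, h5, h6⟩ := exists_mem_normalizer_of_lt_of_isNilpotent (Q := S ⊓ H) hS.isPGroup.isNilpotent
      (lt_of_le_of_ne inf_le_left fun e => hn (inf_eq_left.mp e))
    exact h6 (mem_inf.mpr ⟨hy, h2 y (hS.le hy).1 (conj_mem_of_mem_normalizer h5
      (mem_inf.mpr ⟨h3 (mem_zpowers _), cH'⟩)).2⟩)
  obtain ⟨k, hk, h5⟩ := hS.exists_le_conj (Q := zpowers (g * c * g⁻¹)) (pg3 (by rw [conj_pow, c3]; group))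
    (zpowers_le.mpr (mem_inf.mpr ⟨mul_mem (mul_mem hg cL) (inv_mem hg), mem_centralizer_singleton_iff.mpr (by
      rw [conj_mul, conj_mul, hx])⟩))
  have h6 := mul_mem (inv_mem (mem_inf.mp hk).1) hg
  refine ⟨_, h1 _ h6 (by simpa [mul_assoc] using h4 (Local.mem_conj_smul_iff.mp (h5 (mem_zpowers _)))), h6, ?_⟩
  rw [cj_mul, cj_of_cm (cm_inv (mem_centralizer_singleton_iff.mp hk.2))]

theorem sylZ (hT : IsPGroup 3 (L ⊓ centralizer {z} : Subgroup G)) (zL : z ∈ L)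
    (hw : ∀ g ∈ L, g * z * g⁻¹ * z = z * (g * z * g⁻¹) → g * z * g⁻¹ = z ∨ g * z * g⁻¹ = z⁻¹) :
    IsSylowIn 3 (L ⊓ centralizer {z}) L :=
  G23.syl3 inf_le_left hT fun g hg hn => mem_inf.mpr ⟨mul_mem hg hg, mem_centralizer_singleton_iff.mpr (cm_of_cj (by
    rcases hw g hg (mem_centralizer_singleton_iff.mp (conj_mem_of_mem_normalizer hn
      (mem_inf.mpr ⟨zL, mem_centralizer_singleton_iff.mpr rfl⟩)).2) with e | e
    · rw [cj_mul, e, e]
    · rw [cj_mul, e, cj_inv e, inv_inv]))⟩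

theorem npc3 (hT : IsPGroup 3 (L ⊓ centralizer {z} : Subgroup G)) (zL : z ∈ L) (oz : orderOf z = 3)
    (hw : ∀ g ∈ L, g * z * g⁻¹ * z = z * (g * z * g⁻¹) → g * z = z * g) (eL : e ∈ L) (ez : e * z = z * e)
    (e3 : e ^ 3 = 1) (e1 : e ∉ zpowers z) (hH : ∀ x ∈ closure {e, z}, x ≠ 1 → centralizer {x} ≤ H) : L ≤ H := by
  have z3 : z ^ 3 = 1 := oz ▸ pow_orderOf_eq_one z
  have hS := sylZ hT zL fun g hg h => .inl (cj_of_cm (hw g hg h))
  have h1 : ∀ g ∈ L, g * z * g⁻¹ ∈ L ⊓ centralizer {z} → g ∈ L ⊓ centralizer {z} := fun g hg h =>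
    mem_inf.mpr ⟨hg, mem_centralizer_singleton_iff.mpr (hw g hg (mem_centralizer_singleton_iff.mp h.2))⟩
  have hN : HasNPC 3 L := hasNPC_of_fusion hS fun x hx g hg h => by
    obtain ⟨k, h2, -, h3⟩ := conj2 h1 h1 zL (mem_inf.mpr ⟨zL, mem_centralizer_singleton_iff.mpr rfl⟩) zL z3 z3 hg
      (mem_centralizer_singleton_iff.mp hx.2).symm (mem_centralizer_singleton_iff.mp h.2).symm
    exact ⟨k, h2, h3.symm⟩
  rw [← hN.sup_compl hS]
  exact sup_le (inf_le_right.trans (hH z (subset_closure (.inr rfl)) fun e => by simp [e] at oz))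
    (le_of_centralizer_le_of_rank_two Nat.prime_three (hN.le_normalizer eL) (hN.le_normalizer zL) ez e3 oz e1
      ((Nat.Prime.coprime_iff_not_dvd Nat.prime_three).mp (hN.coprime_card Nat.prime_three).symm)
      fun x hx x1 => inf_le_right.trans (hH x hx x1))

theorem wc_of_cent (hz : WC H z) (hs : ∀ x ∈ H, x ^ 3 = 1 → ∃ h ∈ H, h⁻¹ * x * h * z = z * (h⁻¹ * x * h))
    (x3 : x ^ 3 = 1) (hC : centralizer {x} ≤ H) : WC H x := fun g hg => by
  obtain ⟨h, h1, h2⟩ := hs _ hg (by rw [conj_pow, x3]; group)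
  have h3 := hz (g⁻¹ * h) (hC (mem_centralizer_singleton_iff.mpr (by
    calc _ = g⁻¹ * h * (z * (h⁻¹ * (g * x * g⁻¹) * h)) * (g⁻¹ * h)⁻¹ := by group
      _ = _ := by rw [← h2]; group)))
  exact inv_mem_iff.mp ((H.mul_mem_cancel_right h1).mp h3)

/-- A subgroup given by a list. -/
def subOf {M : Type*} [Group M] (l : List M) (h1 : 1 ∈ l) (hm : ∀ a ∈ l, ∀ b ∈ l, a * b⁻¹ ∈ l) : Subgroup M :=
  have hi : ∀ b ∈ l, b⁻¹ ∈ l := fun b hb => by simpa using hm 1 h1 b hb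
  { carrier := {a | a ∈ l}
    one_mem' := h1
    inv_mem' := fun h => hi _ h
    mul_mem' := fun ha hb => by simpa using hm _ ha _ (hi _ hb) }

end Cfsg.Agent.L43
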