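import Cfsg.Agent.L43.TC
import Cfsg.Agent.HSR.Tools
import Cfsg.Agent.M11.Count
import Cfsg.Agent.P43.EDChk

/-! Lists of elements of a coded permutation group. -/

set_option autoImplicit false
set_option linter.unusedSectionVars false

namespace Cfsg.Agent.L43

open Subgroup Cfsg.Agent.Mat Cfsg.Agent.HSR

section

variable {M : Type*} [Group M]

/-- The powers of an element of order three. -/
def P3 (x : M) : List M := [1, x, x⁻¹]

/-- Products of two lists. -/
def mulL (A B : List M) : List M := B.flatMap fun g => A.map (· * g)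

theorem mem_mulL {A B : List M} {c : M} : c ∈ mulL A B ↔ ∃ x ∈ A, ∃ g ∈ B, c = x * g := by
  simp only [mulL, List.mem_flatMap, List.mem_map]
  exact ⟨fun ⟨g, h1, x, h2, e⟩ => ⟨x, h2, g, h1, e.symm⟩, fun ⟨x, h2, g, h1, e⟩ => ⟨g, h1, x, h2, e.symm⟩⟩

theorem orb [Finite M] {x : M} {O L : List M} (hO : ∀ o ∈ O, IsConj x o) (nO : O.Nodup)
    (hL : ∀ c ∈ L, c * x = x * c) (nL : L.Nodup) {a b : ℕ} (ha : O.length = a) (hb : L.length = b) (a0 : 0 < a)
    (hc : Nat.card M ≤ a * b) :
    Nat.card M = a * b ∧ Nat.card (centralizer ({x} : Set M)) = b ∧ ∀ g, g * x = x * g → g ∈ L := by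
  classical
  have h1 := M11.cc_mul x
  have h2 : a ≤ {w | IsConj x w}.ncard := by
    rw [← ha, ← List.toFinset_card_of_nodup nO, ← Set.ncard_coe_finset]
    exact Set.ncard_le_ncard fun o ho => hO o (List.mem_toFinset.mp ho)
  have h3 : b ≤ M11.cc x := by
    rw [← hb, ← List.toFinset_card_of_nodup nL, ← Set.ncard_coe_finset, M11.cc, ← M11.ncard_coe]
    exact Set.ncard_le_ncard fun o ho => mem_centralizer_singleton_iff.mpr (hL o (List.mem_toFinset.mp ho))
  have h4 : M11.cc x = b := by nlinarith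
  refine ⟨by nlinarith, h4, fun g hg => mem_list_of_nodup (K := centralizer {x})
    (fun c hc => mem_centralizer_singleton_iff.mpr (hL c hc)) nL (hb ▸ h4.le) g (mem_centralizer_singleton_iff.mpr hg)⟩

end

variable {ms : List (CP 40)}

/-- A list of elements given by their codes. -/
def lit (L : List (cl ms)) (cs : List ℕ) (e : cs = L.map (·.1.1)) : List (cl ms) :=
  cs.pmap (fun c (hc : ∃ x : cl ms, x.1.1 = c) =>
    ⟨⟨c, by obtain ⟨x, rfl⟩ := hc; exact x.1.2⟩, by obtain ⟨x, rfl⟩ := hc; exact x.2⟩)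
    (fun c hc => by obtain ⟨x, -, rfl⟩ := List.mem_map.mp (e ▸ hc); exact ⟨x, rfl⟩)

theorem lit_eq (L : List (cl ms)) (cs : List ℕ) (e : cs = L.map (·.1.1)) : lit L cs e = L := by
  subst e
  rw [lit, List.pmap_map]
  exact (List.pmap_eq_map (f := id) _).trans (List.map_id _)

/-- Equality of two products. -/
def E (u v : List (cl ms)) : Prop := u.prod = v.prod

instance (u v : List (cl ms)) : Decidable (E u v) :=
  decidable_of_iff (lz 40 (u.map (·.1.1)) (v.map (·.1.1)) = true) (by
    have e : ∀ u : List (cl ms), u.map (·.1.1) = (u.map Subtype.val).map Subtype.val := fun u => by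
      induction u with
      | nil => rfl
      | cons a u ih => exact congrArg (a.1.1 :: ·) ih
    rw [e, e, E, Subtype.ext_iff, SubmonoidClass.coe_list_prod, SubmonoidClass.coe_list_prod]
    exact ⟨eq_of_lz _ _, lz_of_eq _ _⟩)

/-- Commutation. -/
def Cm (a b : cl ms) : Prop := a * b = b * a

instance (a b : cl ms) : Decidable (Cm a b) := decidable_of_iff (E [a, b] [b, a]) (by simp [E, Cm])

/-- Inversion. -/
def Iv (a b : cl ms) : Prop := a * b * a⁻¹ = b⁻¹

instance (a b : cl ms) : Decidable (Iv a b) := decidable_of_iff (E [b, a, b] [a]) (by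
  simp only [E, Iv, List.prod_cons, List.prod_nil, mul_one]
  exact ⟨fun h => by rw [mul_inv_eq_iff_eq_mul, eq_inv_mul_iff_mul_eq, h], fun h => by
    rw [mul_inv_eq_iff_eq_mul.mp h, mul_inv_cancel_left]⟩)

/-- Cube root of one. -/
def C3 (a : cl ms) : Prop := a ^ 3 = 1

instance (a : cl ms) : Decidable (C3 a) := decidable_of_iff (E [a, a, a] []) (by simp [E, C3, pow_three])

/-- Square root of one. -/
def C2 (a : cl ms) : Prop := a * a = 1

instance (a : cl ms) : Decidable (C2 a) := decidable_of_iff (E [a, a] []) (by simp [E, C2])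

/-- Membership in a list. -/
def Mem (a : cl ms) (L : List (cl ms)) : Prop := a ∈ L

instance (a : cl ms) (L : List (cl ms)) : Decidable (Mem a L) :=
  decidable_of_iff (force a.1.1 (fun c => anyL (fun b => Nat.beq c b.1.1) L) = true) (by
    simp only [force_eq, anyL_iff, Nat.beq_eq, P43.code_eq, exists_eq_right', Mem])

/-- Some point is fixed. -/
def Fx (a : cl ms) : Prop := ∃ i : Fin 40, a.1 • i = i

instance (a : cl ms) : Decidable (Fx a) := decidable_of_iff _ (fx_iff a.1)

theorem Fx.conj {a b : cl ms} (h : Fx a) (e : IsConj a b) : Fx b := by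
  obtain ⟨g, rfl⟩ := isConj_iff.mp e
  obtain ⟨i, hi⟩ := h
  exact ⟨g.1 • i, by rw [coe_mul, coe_mul, mul_smul, coe_inv, inv_smul_smul, mul_smul, hi]⟩

instance (priority := 10000) decA {α : Type*} (p : α → Prop) [DecidablePred p] (L : List α) :
    Decidable (∀ a ∈ L, p a) :=
  decidable_of_iff (allL (fun a => decide (p a)) L = true) (by simp only [allL_iff, decide_eq_true_eq])

instance (priority := 10000) decE {α : Type*} (p : α → Prop) [DecidablePred p] (L : List α) :
    Decidable (∃ a ∈ L, p a) :=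
  decidable_of_iff (anyL (fun a => decide (p a)) L = true) (by simp only [anyL_iff, decide_eq_true_eq])

/-- Strictly increasing lists. -/
def incr (l : List ℕ) : ℕ → Bool :=
  @List.rec ℕ (fun _ => ℕ → Bool) (fun _ => true) (fun a _ ih m =>
    force a fun c => @Bool.rec (fun _ => Bool) false (ih c) (Nat.blt m c)) l

theorem incr_spec {l : List ℕ} {m : ℕ} (h : incr l m = true) : l.Nodup ∧ ∀ a ∈ l, m < a := by
  induction l generalizing m with
  | nil => simp
  | cons a l ih =>
    have h1 : @Bool.rec (fun _ => Bool) false (incr l a) (Nat.blt m a) = true := 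
      (force_eq a fun c => @Bool.rec (fun _ => Bool) false (incr l c) (Nat.blt m c)).symm.trans h
    obtain ⟨h2, h3⟩ := rec_true h1
    obtain ⟨h4, h5⟩ := ih h3
    rw [Nat.blt_eq] at h2
    exact ⟨List.nodup_cons.mpr ⟨fun ha => lt_irrefl _ (h5 a ha), h4⟩,
      List.forall_mem_cons.mpr ⟨h2, fun b hb => h2.trans (h5 b hb)⟩⟩

/-- Conjugates by words. -/
def cjs (x : cl ms) (W : List (List ℕ)) : List (cl ms) := W.map fun w => el ms w * x * (el ms w)⁻¹

theorem cjs_conj {x : cl ms} {W : List (List ℕ)} : ∀ o ∈ cjs x W, IsConj x o := fun o ho => by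
  obtain ⟨w, -, rfl⟩ := List.mem_map.mp ho
  exact isConj_iff.mpr ⟨_, rfl⟩

theorem nodup_incr {L : List (cl ms)} (h : incr (L.map (·.1.1)) 0 = true) : L.Nodup := (incr_spec h).1.of_map

theorem nodup_ndM {L : List (cl ms)} (k : ℕ) (h : ndM (L.map fun c => Nat.mod c.1.1 k) 0 = true) : L.Nodup :=
  (ndM_spec h).1.of_map

end Cfsg.Agent.L43
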