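import Cfsg.Agent.L43.Gen
import Cfsg.Agent.L43.Tl
import Cfsg.Agent.Char.A9Loc
import Cfsg.Agent.Char.ZCent

/-! Quotients of centralisers. -/

set_option autoImplicit false
set_option linter.unusedSectionVars false

namespace Cfsg.Agent.L43

open Subgroup Cfsg.Agent.Local Cfsg.Agent.Char Cfsg.Agent.Char.A9

variable {G : Type*} [Group G] [Finite G]

theorem yq {N : Subgroup G} {z w b τ : G} (oz : orderOf z = 3) (zN : z ∈ N) (wN : w ∈ N) (wz : w * z = z * w)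
    (w1 : w ∉ zpowers z) (hV : ∀ e ∈ closure {w, z}, e ≠ 1 → WC N e) (tt : τ * τ = 1) (tz : τ * z * τ⁻¹ = z⁻¹)
    (bz : b * z = z * b) (tb : τ * b * τ⁻¹ = b⁻¹) (b1 : b ∉ zpowers z)
    (h1 : ∀ g ∈ N, g * z * g⁻¹ = z ∨ g * z * g⁻¹ = z⁻¹)
    (h2 : ∀ g, g * z = z * g → g ^ 3 = 1 ∧ g * b * g⁻¹ * b⁻¹ ∈ zpowers z ∧
      g⁻¹ * (τ * g * τ⁻¹) * b = b * (g⁻¹ * (τ * g * τ⁻¹)) ∧ (g * b = b * g → τ * g * τ⁻¹ = g⁻¹)) : N = ⊤ := by
  have wc := hV z (subset_closure (.inr rfl)) fun e => by simp [e] at oz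
  have z3 := (h2 z rfl).1
  have m1 : ∀ {g}, g ∈ ⊤ ⊓ centralizer {z} ↔ g * z = z * g := by simp [mem_centralizer_singleton_iff]
  have hS := sylZ (L := ⊤) (fun g => ⟨1, Subtype.ext (h2 g (m1.mp g.2)).1⟩) (mem_top z)
    fun g _ h => h1 g (wc g (wc.cent zN h))
  have h3 : ∀ g, g * z * g⁻¹ = z⁻¹ → g * τ * z = z * (g * τ) := fun g e =>
    cm_of_cj (by rw [cj_mul, tz, cj_inv e, inv_inv])
  have h4 : ∀ x c, x * z = z * x → c * z = z * c → x⁻¹ * (c * x * c⁻¹) * b = b * (x⁻¹ * (c * x * c⁻¹)) :=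
    fun x c hx hc => by
      have a1 := cm_mul hx (cm_inv hc)
      have a2 := (h2 _ a1).2.1
      have a3 := (h2 _ hc).2.1
      have a4 := cm_zp hc a2
      have a5 := cm_zp a1 a3
      have a6 := cm_zp (cm_zp rfl a3).symm a2
      refine cm_of_cj ?_
      calc _ = x⁻¹ * (c * (x * c⁻¹ * b * (x * c⁻¹)⁻¹ * b⁻¹) * c⁻¹ * (c * b * c⁻¹ * b⁻¹) * b) * x := by group
        _ = x⁻¹ * (x * c⁻¹ * (c * b * c⁻¹ * b⁻¹) * (x * c⁻¹)⁻¹ * (x * c⁻¹ * b * (x * c⁻¹)⁻¹ * b⁻¹) * b) * x := by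
          rw [cj_of_cm a4, cj_of_cm a5, a6]
        _ = _ := by group
  obtain ⟨X, -, n1, n2, n3, n4⟩ := P43.exists_tr (W := centralizer {b}) hS fun x hx g _ hg => by
    obtain ⟨k, a1, a2⟩ := wc.hc_of_comm zN z3 (m1.mp hx).symm (m1.mp hg).symm (isConj_iff.mpr ⟨g, rfl⟩)
    rw [← a2]
    rcases h1 k a1 with e | e
    · exact mem_centralizer_singleton_iff.mpr (h4 _ _ (m1.mp hx) (cm_of_cj e))
    · have a3 : τ * x * τ⁻¹ * z = z * (τ * x * τ⁻¹) := by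
        rw [← inv_inv z, ← tz, conj_inv, conj_mul, conj_mul, (cm_inv (m1.mp hx).symm)]
      rw [show x⁻¹ * (k * x * k⁻¹) = x⁻¹ * (τ * x * τ⁻¹) * ((τ * x * τ⁻¹)⁻¹ *
        (k * τ * (τ * x * τ⁻¹) * (k * τ)⁻¹)) by rw [← cj_mul, mul_assoc k τ τ, tt]; group]
      exact mul_mem (mem_centralizer_singleton_iff.mpr (h2 x (m1.mp hx)).2.2.1)
        (mem_centralizer_singleton_iff.mpr (h4 _ _ a3 (h3 k e)))
  have n0 : ∀ g, g ∈ normalizer (X : Set G) := fun g => n1 (mem_normalizer_of_conj_mem fun _ _ => mem_top _)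
  have tX : τ ∈ X := n3 τ trivial (Nat.Coprime.coprime_dvd_left (orderOf_dvd_of_pow_eq_one (n := 2)
    ((pow_two τ).trans tt)) (by decide))
  have h5 : ∀ v, v ^ 3 = 1 → τ * v * τ⁻¹ = v⁻¹ → v ∈ X := fun v e1 e2 => by
    have := n2 τ trivial v trivial
    rwa [e2, ← mul_inv_rev, inv_eq_of_mul_eq_one_right ((pow_three' v).symm.trans e1)] at this
  have zP : z ∈ ⊤ ⊓ centralizer {z} ⊓ X := mem_inf.mpr ⟨m1.mpr rfl, h5 z z3 tz⟩
  have hi : ∀ x ∈ ⊤ ⊓ centralizer {z} ⊓ X, τ * x * τ⁻¹ = x⁻¹ := fun x hx =>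
    (h2 x (m1.mp hx.1)).2.2.2 (mem_centralizer_singleton_iff.mp (n4 hx))
  have hc : ∀ x ∈ ⊤ ⊓ centralizer {z} ⊓ X, ∀ y ∈ ⊤ ⊓ centralizer {z} ⊓ X, x * y = y * x := fun x hx y hy => by
    rw [← inv_inj, ← hi _ (mul_mem hx hy), ← conj_mul, hi x hx, hi y hy, mul_inv_rev]
  have h6 : ∀ g ∈ normalizer ((⊤ ⊓ centralizer {z} ⊓ X : Subgroup G) : Set G), g ∈ N := fun g hg =>
    wc g (wc.cent zN (m1.mp (conj_mem_of_mem_normalizer hg zP).1))
  obtain ⟨K, -, k1, k2, k3, -⟩ := G23.st_main (hS.inf_of_le_normalizer le_top fun g _ => n0 g) hc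
    (fun x hx => (h2 x (m1.mp hx.1)).1) (not_le.mp fun e => b1 ((eq_of_le_of_card_ge (zpowers_le.mpr zP)
      (by rwa [Nat.card_zpowers, oz])).ge (mem_inf.mpr ⟨m1.mpr bz, h5 b (h2 b bz).1 tb⟩)))
    (fun g hg hn x hx => (h1 g (h6 g hn)).imp (fun e => by
        rw [mul_assoc, ← hc g (mem_inf.mpr ⟨m1.mpr (cm_of_cj e), hg⟩) x hx, inv_mul_cancel_left]) fun e => by
      rw [← hi x hx, show g⁻¹ * x * g = g⁻¹ * (x * (g * τ)) * τ⁻¹ by group,
        ← hc _ (mem_inf.mpr ⟨m1.mpr (h3 g e), mul_mem hg tX⟩) x hx]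
      group) tX hi
  have h7 : K ≤ N := le_of_centralizer_le_of_rank_two Nat.prime_three (k1 (n0 w)) (k1 (n0 z)) wz (h2 w wz).1 oz w1 k2
    fun e he e1 g hg => (hV e he e1).cent ((closure_le N).mpr (by rintro _ (rfl | rfl) <;> assumption) he)
      (mem_centralizer_singleton_iff.mp hg.2)
  refine eq_top_iff.mpr fun g _ => wc g ?_
  obtain ⟨k, a1, a2⟩ := k3 _ (conj_mem_of_mem_normalizer (n0 g) zP.2)
  exact (N.mul_mem_cancel_left (inv_mem (h7 a1))).mp (h6 _ a2)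

variable {M : Type*} [Group M] {F : M →* G} {x : M} {R : Type*} [Group R] {f : centralizer ({F x} : Set G) →* R}

/-- Restriction to a centraliser. -/
def res (F : M →* G) (x : M) : centralizer ({x} : Set M) →* centralizer ({F x} : Set G) :=
  MonoidHom.mk' (fun a => ⟨F a, mem_centralizer_singleton_iff.mpr (by
    rw [← map_mul, mem_centralizer_singleton_iff.mp a.2, map_mul])⟩) fun a b => Subtype.ext (map_mul F a.1 b.1)

theorem res_val (a : centralizer ({x} : Set M)) : (res F x a).1 = F a := rfl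

theorem zp_iff (hF : Function.Injective F) (o : orderOf (F x) = 3) {v : M} : F v ∈ zpowers (F x) ↔ v ∈ P3 x := by
  refine ⟨fun h => ?_, fun h => ?_⟩
  · rcases Local.mem_zpowers_three o h with e | e | e
    · simp [P3, hF (e.trans (map_one F).symm)]
    · simp [P3, hF e]
    · simp [P3, hF (e.trans (map_inv F x).symm)]
  · simp only [P3, List.mem_cons, List.not_mem_nil, or_false] at h
    rcases h with rfl | rfl | rfl <;> simp

theorem res_eq (hF : Function.Injective F) (h : CQ (F x) f) {a b : centralizer ({x} : Set M)} :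
    f.comp (res F x) a = f.comp (res F x) b ↔ a.1 * b.1⁻¹ ∈ P3 x := by
  rw [MonoidHom.comp_apply, MonoidHom.comp_apply, h.eq_iff, res_val, res_val, ← map_inv, ← map_mul, zp_iff hF h.ord]

theorem res_mem (hF : Function.Injective F) (h : CQ (F x) f) {g : centralizer ({F x} : Set G)} :
    f g ∈ (f.comp (res F x)).range ↔ g.1 ∈ F.range := by
  refine ⟨fun ⟨a, e⟩ => ?_, fun ⟨a, e⟩ => ⟨⟨a, mem_centralizer_singleton_iff.mpr (hF (by
    rw [map_mul, map_mul, e, mem_centralizer_singleton_iff.mp g.2]))⟩, congrArg f (Subtype.ext e)⟩⟩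
  exact inv_mem_iff.mp ((F.range.mul_mem_cancel_left ⟨a, rfl⟩).mp
    (zpowers_le.mpr (F.mem_range.mpr ⟨x, rfl⟩) (h.eq_iff.mp e)))

theorem res_wc (hF : Function.Injective F) (h : CQ (F x) f) {a : centralizer ({x} : Set M)} (ha : WC F.range (F a)) :
    WC (f.comp (res F x)).range (f.comp (res F x) a) := fun g hg => by
  obtain ⟨g, rfl⟩ := h.surj g
  rw [MonoidHom.comp_apply, ← map_inv, ← map_mul, ← map_mul, res_mem hF h] at hg
  exact (res_mem hF h).mpr (ha g hg)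

theorem res_top (hF : Function.Injective F) (h : CQ (F x) f) (e : (f.comp (res F x)).range = ⊤) :
    centralizer {F x} ≤ F.range := fun g hg => (res_mem hF h (g := ⟨g, hg⟩)).mp (e.ge trivial)

end Cfsg.Agent.L43
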