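import Cfsg.Agent.L43.Gen
import Cfsg.Agent.L43.M3
import Cfsg.Agent.L43.Iso
import Cfsg.Agent.Char.A9Mod

/-! The embedding of the parabolic subgroup. -/

set_option autoImplicit false
set_option linter.unusedSectionVars false
set_option maxRecDepth 100000
set_option synthInstance.maxSize 4000

namespace Cfsg.Agent.L43

open Subgroup Cfsg.Agent.Local Cfsg.Agent.Mat Cfsg.Agent.HSR Cfsg.Agent.Char

attribute [local irreducible] cmul cinv msM msK

variable {G : Type*} [Group G] [Finite G] {Q : Subgroup G} {φ : G → SL23} {F : X →* G}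

theorem Hyp0.card_cent {z : G} (H : Hyp0 z Q φ) : Nat.card (centralizer ({z} : Set G)) = 5832 := by
  let f : centralizer ({z} : Set G) →* SL23 := MonoidHom.mk' (fun g => φ g) fun a b =>
    H.mul _ _ (mem_centralizer_singleton_iff.mp a.2) (mem_centralizer_singleton_iff.mp b.2)
  have h1 : f.ker = Q.subgroupOf _ := Subgroup.ext fun g => H.ker _ (mem_centralizer_singleton_iff.mp g.2)
  have h2 : f.range = ⊤ := MonoidHom.range_eq_top.mpr fun σ => by
    obtain ⟨x, h1, h2⟩ := H.surj σ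
    exact ⟨⟨x, mem_centralizer_singleton_iff.mpr h1⟩, h2⟩
  rw [← f.ker.card_mul_index, index_ker, h1, h2, card_top, Nat.card_congr (subgroupOfEquivOfLe fun q hq =>
    mem_centralizer_singleton_iff.mpr (H.le q hq)).toEquiv, H.card, Nat.card_eq_fintype_card]
  decide +kernel

/-- The parabolic subgroup is embedded. -/
structure St (Q : Subgroup G) (φ : G → SL23) (F : X →* G) : Prop where
  H : Hyp (F z0) Q φ
  R : RB (F z0) (F w0) (F y0) (F a0) (F b0) (F s0) (F t0) (F u0)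

section

variable {z w y a b s t u n m : G}

theorem Fr.st (R : Fr z w y a b s t u n m) (H : Hyp z Q φ) {l : List G}
    (h : ∀ i < 16, F (el msM [i]) = ev (lM z w y a b s t u n m ++ l) [i]) : St Q φ F ∧ F z0 = z ∧ F y0 = y := by
  have e0 : F z0 = z := by rw [z0, h 0 (by decide)]; exact mul_one _
  have e1 : F w0 = w := by rw [w0, h 2 (by decide)]; exact mul_one _
  have e2 : F y0 = y := by rw [y0, h 4 (by decide)]; exact mul_one _
  have e3 : F a0 = a := by rw [a0, h 6 (by decide)]; exact mul_one _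
  have e4 : F b0 = b := by rw [b0, h 8 (by decide)]; exact mul_one _
  have e5 : F s0 = s := by rw [s0, h 10 (by decide)]; exact mul_one _
  have e6 : F t0 = t := by rw [t0, h 12 (by decide)]; exact mul_one _
  have e7 : F u0 = u := by rw [u0, h 14 (by decide)]; exact mul_one _
  exact ⟨⟨e0 ▸ H, by rw [e0, e1, e2, e3, e4, e5, e6, e7]; exact R.R⟩, e0, e2⟩

theorem Fr.cases (R : Fr z w y a b s t u n m) (H : Hyp z Q φ) :
    (∃ F : X →* G, St Q φ F ∧ ¬ IsConj (F z0) (F y0)) ∨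
      ∃ F : Y →* G, Function.Injective F ∧ St Q φ (F.comp ι) := by
  by_cases h : IsConj z y
  · obtain ⟨l, hl⟩ := R.fused H h
    obtain ⟨F, hF⟩ := exists_hom_words (ms := msK) (gs := lM z w y a b s t u n m ++ [l, l⁻¹])
      ((by decide +kernel : msK.length = 22).trans rfl) (fun l hl h => presK hl h) cardK.ge rels_msK hl
    obtain ⟨h1, h2, -⟩ := R.st H (F := F.comp ι) (l := [l, l⁻¹]) fun i hi => by
      rw [MonoidHom.comp_apply, (by decide +kernel : ∀ i < 16, ι (el msM [i]) = el msK [i]) i hi]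
      exact hF _
    have := simpleK
    refine .inr ⟨F, (F.ker_eq_bot_iff).mp ((F.normal_ker.eq_bot_or_eq_top).resolve_right fun e => H.z1 ?_), h1⟩
    rw [← h2]
    exact e.ge (mem_top (ι z0))
  · obtain ⟨F, hF⟩ := exists_hom_words (ms := msM) (gs := lM z w y a b s t u n m ++ [])
      ((by decide +kernel : msM.length = 20).trans rfl) (fun l hl h => presM (hl.trans rfl) h) cardM.ge rels_msM (R.rels [])
    obtain ⟨h1, h2, h3⟩ := R.st H (F := F) (l := []) fun i _ => hF _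
    exact .inl ⟨F, h1, by rwa [h2, h3]⟩

end

theorem map_cm {M : Type*} [Group M] (F : M →* G) {a b : M} (h : a * b = b * a) : F a * F b = F b * F a := by
  rw [← map_mul, h, map_mul]

theorem cm_map {M : Type*} [Group M] {F : M →* G} (hF : Function.Injective F) {a b : M} (h : F a * F b = F b * F a) :
    a * b = b * a := hF (by rw [map_mul, h, map_mul])

theorem conj_map {M : Type*} [Group M] (F : M →* G) {a b : M} (h : IsConj a b) : HC F.range (F a) (F b) := by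
  obtain ⟨g, rfl⟩ := isConj_iff.mp h
  exact ⟨F g, ⟨g, rfl⟩, by simp⟩

/-- The image of a list lies in a subgroup. -/
def In {M : Type*} [Group M] (F : M →* G) (K : Subgroup G) (l : List M) : Prop := ∀ c ∈ l, F c ∈ K

theorem In.P3 {M : Type*} [Group M] {F : M →* G} {K : Subgroup G} {x : M} (h : F x ∈ K) : In F K (P3 x) := by
  simp [In, L43.P3, h]

theorem In.mulL {M : Type*} [Group M] {F : M →* G} {K : Subgroup G} {A B : List M} (h : In F K A) (h' : In F K B) :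
    In F K (mulL A B) := fun c hc => by
  obtain ⟨x, h1, g, h2, rfl⟩ := mem_mulL.mp hc
  exact map_mul F x g ▸ mul_mem (h x h1) (h' g h2)

theorem d2f : ∀ i < 3, ∀ j < 3, z0 ^ i * y0 ^ j = 1 ∨ z0 ^ i * y0 ^ j = z0 ∨ z0 ^ i * y0 ^ j = z0⁻¹ ∨
    Mem (z0 ^ i * y0 ^ j) K1 ∧ Mem (s0 * b0 * (z0 ^ i * y0 ^ j)) K5 := by decide +kernel

namespace St

variable (S : St Q φ F)
include S

theorem inj : Function.Injective F := inj_of S.H.z1

theorem cz {g : G} (hg : g * F z0 = F z0 * g) : ∃ c ∈ LC, g = F c := by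
  obtain ⟨c, h1, h2⟩ := List.mem_map.mp (mem_list_of_nodup (K := centralizer {F z0}) (l := LC.map F)
    (List.forall_mem_map.mpr fun c hc => mem_centralizer_singleton_iff.mpr (map_cm F (LC_cm c hc)))
    (LC_nodup.map S.inj) (by rw [S.H.card_cent, List.length_map, LC_len]) g (mem_centralizer_singleton_iff.mpr hg))
  exact ⟨c, h1, h2.symm⟩

theorem czr : centralizer {F z0} ≤ F.range := fun _ hg => by
  obtain ⟨c, -, rfl⟩ := S.cz (mem_centralizer_singleton_iff.mp hg)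
  exact ⟨c, rfl⟩

theorem cvr {v : X} (hv : v ∈ K0) : centralizer {F v} ≤ F.range := fun g hg => by
  obtain ⟨k, rfl⟩ := isConj_iff.mp (cls0.mpr hv)
  have := S.czr (mem_centralizer_singleton_iff.mpr (cm_cj'.mp (by simpa using mem_centralizer_singleton_iff.mp hg)))
  simpa [mul_assoc] using mul_mem (mul_mem (F.mem_range.mpr ⟨k, rfl⟩) this) (inv_mem (F.mem_range.mpr ⟨k, rfl⟩))

theorem cwz {e : G} (he : e ∈ closure {F w0, F z0}) (e1 : e ≠ 1) : ∃ v ∈ K0, e = F v := by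
  obtain ⟨i, hi, j, hj, rfl⟩ := G23.mem_pair S.R.w3 S.R.z3 S.R.wz he
  rw [← map_pow, ← map_pow, ← map_mul] at e1 ⊢
  exact ⟨_, (v1.2.2.2.2 i hi j hj).resolve_left fun e => e1 (by rw [e, map_one]), rfl⟩

theorem card_cz (x : X) {k : ℕ} (h : (LC.filter fun c => decide (Cm c x)).length = k) :
    Nat.card (centralizer {F x} ⊓ centralizer {F z0} : Subgroup G) = k := by
  classical
  rw [← h, ← List.length_map F, ← List.toFinset_card_of_nodup ((LC_nodup.filter _).map S.inj), ← Set.ncard_coe_finset,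
    ← M11.ncard_coe]
  congr 1
  ext g
  simp only [SetLike.mem_coe, mem_inf, mem_centralizer_singleton_iff, List.coe_toFinset, List.mem_map,
    List.mem_filter, decide_eq_true_eq, Set.mem_ofPred_eq]
  refine ⟨fun ⟨h1, h2⟩ => ?_, ?_⟩
  · obtain ⟨c, hc, rfl⟩ := S.cz h2
    exact ⟨c, ⟨hc, cm_map S.inj h1⟩, rfl⟩
  · rintro ⟨c, ⟨h1, h2⟩, rfl⟩
    exact ⟨map_cm F h2, map_cm F (LC_cm c h1)⟩

theorem key {v c : X} (hv : F v ∈ Q) (h : Cm c z0 ∧ ¬ Cm v (c * v * c⁻¹)) : ¬ IsConj (F z0) (F v) :=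
  S.H.key hv (map_cm F h.1) fun e => h.2 (cm_map S.inj (by simpa using e))

theorem pQ : F (w0 * y0) ∈ Q ∧ F (w0 * y0⁻¹) ∈ Q ∧ F (a0 * y0) ∈ Q := by
  simp only [map_mul, map_inv]
  exact ⟨mul_mem (S.R.wQ S.H) (S.R.yQ S.H), mul_mem (S.R.wQ S.H) (inv_mem (S.R.yQ S.H)),
    mul_mem (S.R.aQ S.H) (S.R.yQ S.H)⟩

theorem nz : ¬ IsConj (F z0) (F (w0 * y0)) ∧ ¬ IsConj (F z0) (F (w0 * y0⁻¹)) ∧ ¬ IsConj (F z0) (F (a0 * y0)) :=
  ⟨S.key (c := n0) S.pQ.1 (by decide +kernel), S.key (c := n0) S.pQ.2.1 (by decide +kernel),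
    S.key (c := n0 * s0) S.pQ.2.2 (by decide +kernel)⟩

theorem nz5 (h : ¬ IsConj (F z0) (F y0)) : ¬ IsConj (F z0) (F (s0 * b0)) := fun e => by
  obtain ⟨x, hx⟩ := isConj_iff.mp e
  have H' := hx ▸ S.H.conj x
  have dQ : F (s0 * b0) ∉ Q := fun e => S.R.s1 S.H ((S.H.ker _ S.R.sz).mpr (by
    rw [map_mul] at e
    exact (Q.mul_mem_cancel_right (S.R.bQ S.H)).mp e))
  have c1 : F z0 * F (s0 * b0) = F (s0 * b0) * F z0 := map_cm F (by decide +kernel)
  have c2 : F y0 * F (s0 * b0) = F (s0 * b0) * F y0 := map_cm F (by decide +kernel)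
  obtain ⟨i, hi, j, hj, h1, h2⟩ := (by decide +kernel : ∀ σ τ : SL23, σ ^ 3 = 1 → τ ^ 3 = 1 → σ * τ = τ * σ →
    ∃ i < 3, ∃ j < 3, (i ≠ 0 ∨ j ≠ 0) ∧ σ ^ i * τ ^ j = 1) _ _ (by rw [← H'.phi_pow c1, S.R.z3, H'.phi_one])
    (by rw [← H'.phi_pow c2, S.R.y3, H'.phi_one]) (by rw [← H'.mul _ _ c1 c2, ← H'.mul _ _ c2 c1, S.R.yz])
  rw [← H'.phi_pow c1, ← H'.phi_pow c2, ← H'.mul _ _ (cm_pow c1 i) (cm_pow c2 j),
    H'.ker _ (cm_mul (cm_pow c1 i) (cm_pow c2 j)), ← map_pow, ← map_pow, ← map_mul] at h2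
  have h4 : ∀ e ∈ Q, e ∈ zpowers (F (s0 * b0)) → e = 1 := fun e h5 h6 => by
    rcases Local.mem_zpowers_three H'.oz h6 with rfl | rfl | rfl
    exacts [rfl, absurd h5 dQ, absurd (inv_mem_iff.mp h5) dQ]
  have h3 : F z0 ∉ cq x Q := fun e => dQ (by
    have := (S.H.frame (x := x⁻¹) (by rw [inv_inv]; exact e) fun e' =>
      S.H.z1 (h4 _ S.H.zQ (hx ▸ zp_cj.mpr (by rwa [inv_inv] at e')))).1.1
    rwa [inv_inv, hx] at this)
  have h5 := (by decide +kernel : ∀ i < 3, ∀ j < 3, (i ≠ 0 ∨ j ≠ 0) → z0 ^ i * y0 ^ j ≠ 1) i hi j hj h1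
  rcases d2f i hi j hj with e1 | e1 | e1 | ⟨e1, e2⟩
  · exact h5 e1
  · exact h3 (e1 ▸ h2)
  · exact h3 (inv_mem_iff.mp (map_inv F _ ▸ e1 ▸ h2))
  · obtain ⟨b, hb, h6⟩ := H'.exom h2 fun e' => h5 (S.inj ((h4 _ (by
      rw [map_mul, map_pow, map_pow]
      exact mul_mem (pow_mem S.H.zQ i) (pow_mem (S.R.yQ S.H) j)) e').trans (map_one F).symm))
    refine h (e.trans ((conj_map F (cjs_conj _ (K5_eq ▸ e2))).isConj.trans (IsConj.trans (isConj_iff.mpr ⟨b, ?_⟩)
      (conj_map F (cjs_conj _ (K1_eq ▸ e1))).isConj.symm)))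
    rw [map_mul, ← mul_assoc, H'.le b hb, ← (H'.om1 h2 hb).mp h6]
    group

theorem memQ : In F Q L243 := L243_eq ▸ ((((In.P3 S.H.zQ).mulL (.P3 (S.R.wQ S.H))).mulL (.P3 (S.R.yQ S.H))).mulL
  (.P3 (S.R.aQ S.H))).mulL (.P3 (S.R.bQ S.H))

theorem sylD : IsPGroup 3 (centralizer {F (a0 * y0)} ⊓ centralizer {F z0} : Subgroup G) ∧
    ∀ g ∈ centralizer {F (a0 * y0)}, g * F z0 * g⁻¹ * F z0 = F z0 * (g * F z0 * g⁻¹) → g * F z0 = F z0 * g := by
  refine ⟨IsPGroup.of_card (n := 4) (S.card_cz _ (by decide +kernel)), fun g hg h => ?_⟩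
  replace hg := mem_centralizer_singleton_iff.mp hg
  obtain ⟨c, h1, h2⟩ := S.cz h
  have h3 : Cm c (a0 * y0) := cm_map S.inj (by
    rw [← h2, ← cj_of_cm hg, conj_mul, conj_mul, map_cm F (by decide +kernel : z0 * (a0 * y0) = a0 * y0 * z0)])
  by_cases e : g * F z0 * g⁻¹ ∈ zpowers (F z0)
  · rcases Local.mem_zpowers_three S.H.oz e with e | e | e
    · exact absurd (conj_eq_one_iff.mp e) S.H.z1
    · exact cm_of_cj e
    · obtain ⟨k, h4, h5⟩ := S.cz (g := g * F u0) (cm_of_cj (by rw [cj_mul, S.R.uz, cj_inv e, inv_inv]))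
      refine absurd (cm_map S.inj ?_) ((by decide +kernel : ∀ c ∈ LC, ¬ E [c, u0, a0 * y0] [a0 * y0, c, u0]) k h4 ∘
        fun e : k * u0 * (a0 * y0) = a0 * y0 * (k * u0) => by simpa [E, mul_assoc] using e)
      rwa [map_mul F k, ← h5, mul_assoc g, S.R.uu, mul_one]
  · refine absurd (cm_map S.inj ?_) (by decide +kernel : ¬ Cm (a0 * y0) (n0 * s0 * (a0 * y0) * (n0 * s0)⁻¹))
    rw [map_mul F (n0 * s0 * _), map_mul F (n0 * s0), map_inv]
    refine (S.H.frame ?_ e).1.2 _ S.pQ.2.2 (by rw [mul_assoc, ← hg, inv_mul_cancel_left]; exact S.pQ.2.2) _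
      (map_cm F (by decide +kernel))
    exact h2 ▸ S.memQ c ((by decide +kernel : ∀ c ∈ LC, Cm c (a0 * y0) → Mem c L243) c h1 h3)

theorem centD : centralizer {F (a0 * y0)} ≤ F.range :=
  npc3 S.sylD.1 (mem_centralizer_singleton_iff.mpr (map_cm F (by decide +kernel))) S.H.oz S.sylD.2
    (mem_centralizer_singleton_iff.mpr (map_cm F (by decide +kernel : w0 * (a0 * y0) = _))) S.R.wz S.R.w3
    (S.R.w1 S.H) fun x hx x1 => by
      obtain ⟨v, hv, rfl⟩ := S.cwz hx x1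
      exact S.cvr hv

theorem ndp {x : X} (h : (LC.filter fun c => decide (Cm c x)).length = 3 ^ 5) : ¬ IsConj (F x) (F (a0 * y0)) := fun e => by
  have h1 := sylZ S.sylD.1 (mem_centralizer_singleton_iff.mpr (map_cm F (by decide +kernel)))
    fun g hg h => .inl (cj_of_cm (S.sylD.2 g hg h))
  have h2 := card_dvd_of_le (inf_le_left : centralizer {F x} ⊓ centralizer {F z0} ≤ _)
  rw [S.card_cz x h, card_centralizer_eq_of_isConj e, ← card_mul_relIndex h1.le,
    S.card_cz (k := 3 ^ 4) _ (by decide +kernel), pow_succ] at h2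
  exact h1.not_dvd (Nat.dvd_of_mul_dvd_mul_left (by decide) h2)

theorem idx {M : Type*} [Group M] {f : M →* G} (hf : Function.Injective f) (le : F.range ≤ f.range) {a : ℕ}
    (ha : ¬ 3 ∣ a) (hc : Nat.card M = a * 5832) :
    ∀ x ∈ f.range, x ^ 3 = 1 → ∃ h ∈ f.range, h⁻¹ * x * h * F z0 = F z0 * (h⁻¹ * x * h) := fun x hx x3 => by
  obtain ⟨g, h1, h2⟩ := exists_conj_mem (S.czr.trans le) Nat.prime_three ha
    (by rw [S.H.card_cent, ← hc]; exact (Nat.card_congr (MonoidHom.ofInjective hf).toEquiv).symm) hx x3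
  exact ⟨g, h1, mem_centralizer_singleton_iff.mp h2⟩

variable {H : Subgroup G} (le : F.range ≤ H)
  (idx : ∀ x ∈ H, x ^ 3 = 1 → ∃ h ∈ H, h⁻¹ * x * h * F z0 = F z0 * (h⁻¹ * x * h))
include le idx

theorem cls {x : G} (hx : x ∈ H) (x3 : x ^ 3 = 1) (x1 : x ≠ 1) : ∃ i < 6, HC H (F (rp i)) x := by
  obtain ⟨h, h1, h2⟩ := idx x hx x3
  obtain ⟨c, h3, h4⟩ := S.cz h2
  have h5 : x = h * F c * h⁻¹ := by rw [← h4]; group
  rcases cover' h3 (S.inj (by rw [map_pow, map_one, ← h4, ← inv_inv h, inv_inv h⁻¹, conj_pow, x3]; group))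
    with rfl | ⟨i, hi, e⟩
  · exact absurd (by simpa using h5) x1
  · obtain ⟨k, h6, h7⟩ := conj_map F e
    exact ⟨i, hi, HC.trans ⟨k, le h6, h7⟩ ⟨h, h1, h5.symm⟩⟩

theorem wcz (h : ∀ i < 6, IsConj (F z0) (F (rp i)) → HC H (F z0) (F (rp i))) : WC H (F z0) := fun g hg => by
  obtain ⟨i, hi, e⟩ := S.cls le idx hg (by rw [conj_pow, S.R.z3]; group) fun e => S.H.z1 (conj_eq_one_iff.mp e)
  obtain ⟨k, h1, h2⟩ := (h i hi ((isConj_iff.mpr ⟨g, rfl⟩).trans e.isConj.symm)).trans e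
  exact (H.mul_mem_cancel_left (inv_mem h1)).mp (le (S.czr (mem_centralizer_singleton_iff.mpr (cm_of_cj (by
    rw [cj_mul, ← h2]; group)))))

theorem all3 (hz : WC H (F z0)) (h : ∀ i < 6, centralizer {F (rp i)} ≤ H) : ∀ u ∈ H, orderOf u = 3 → WC H u :=
  fun u hu ou => by
    have u3 : u ^ 3 = 1 := ou ▸ pow_orderOf_eq_one u
    obtain ⟨i, hi, e⟩ := S.cls le idx hu u3 fun e => by simp [e] at ou
    refine (wc_of_cent hz idx ?_ (h i hi)).of_hc e
    rw [← map_pow, (by decide +kernel : ∀ i < 6, C3 (rp i)) i hi, map_one]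

end St

end Cfsg.Agent.L43
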