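import Cfsg.Agent.L43.St
import Cfsg.Agent.L43.Gen2
import Cfsg.Agent.L43.SE162

/-! The case without further fusion: centralisers of elements of order three. -/

set_option autoImplicit false
set_option linter.unusedSectionVars false
set_option maxRecDepth 100000
set_option synthInstance.maxSize 4000

namespace Cfsg.Agent.L43

open Subgroup Cfsg.Agent.Local Cfsg.Agent.Mat Cfsg.Agent.HSR Cfsg.Agent.Char Cfsg.Agent.Char.A9

attribute [local irreducible] cmul cinv msM msK

variable {G : Type*} [Group G] [Finite G] {Q : Subgroup G} {φ : G → SL23} {F : X →* G}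

/-- An element of a centraliser. -/
def mc {ms : List (CP 40)} (a : cl ms) {x : cl ms} (h : Cm a x) : centralizer ({x} : Set (cl ms)) :=
  ⟨a, mem_centralizer_singleton_iff.mpr h⟩

theorem res_zp {M : Type*} [Group M] {F : M →* G} {x : M} {R : Type*} [Group R]
    {f : centralizer ({F x} : Set G) →* R} (hF : Function.Injective F) (h : CQ (F x) f)
    {a b : centralizer ({x} : Set M)} (o : orderOf (f.comp (res F x) b) = 3) :
    f.comp (res F x) a ∈ zpowers (f.comp (res F x) b) ↔ ∃ v ∈ P3 b.1, a.1 * v⁻¹ ∈ P3 x := by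
  refine ⟨fun e => ?_, fun ⟨v, h1, h2⟩ => ?_⟩
  · rcases Local.mem_zpowers_three o e with e | e | e
    exacts [⟨1, by simp [P3], (res_eq hF h (b := 1)).mp (e.trans (map_one _).symm)⟩,
      ⟨b, by simp [P3], (res_eq hF h).mp e⟩, ⟨b⁻¹, by simp [P3], (res_eq hF h (b := b⁻¹)).mp (e.trans (map_inv _ _).symm)⟩]
  · simp only [P3, List.mem_cons, List.not_mem_nil, or_false] at h1
    rcases h1 with rfl | rfl | rfl
    · exact ((res_eq hF h (b := 1)).mpr h2).trans (map_one _) ▸ one_mem _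
    · exact (res_eq hF h).mpr h2 ▸ mem_zpowers _
    · exact ((res_eq hF h (b := b⁻¹)).mpr h2).trans (map_inv _ _) ▸ inv_mem (mem_zpowers _)

theorem yf : ∀ c ∈ LC, Cm c y0 → C3 c ∧ (∃ v ∈ P3 z0, Mem (c * b0 * c⁻¹ * b0⁻¹ * v⁻¹) (P3 y0)) ∧
    Mem (c⁻¹ * (t0 * u0 * c * (t0 * u0)⁻¹) * b0 * (b0 * (c⁻¹ * (t0 * u0 * c * (t0 * u0)⁻¹)))⁻¹) (P3 y0) ∧
    (Mem (c * b0 * (b0 * c)⁻¹) (P3 y0) → Mem (t0 * u0 * c * (t0 * u0)⁻¹ * c⁻¹⁻¹) (P3 y0)) := by decide +kernel

theorem NZ.mem {x k τ : X} (h : NZ x) (hk : k * x = x * k) (hτ : Iv τ z0) : k ∈ LC ∨ k * τ ∈ LC :=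
  (h k hk).imp (fun e => orbZ.2.2 _ (cm_of_cj e)) fun e => orbZ.2.2 _ (cm_of_cj (by rw [cj_mul, hτ, cj_inv e, inv_inv]))

namespace St

variable (S : St Q φ F)
include S

theorem ord {x : X} (h : C3 x ∧ x ≠ 1) : orderOf (F x) = 3 := (orderOf_injective F S.inj x).trans
  (orderOf_eq_prime h.1 h.2)

theorem idxU : ∀ x ∈ F.range, x ^ 3 = 1 → ∃ h ∈ F.range, h⁻¹ * x * h * F z0 = F z0 * (h⁻¹ * x * h) :=
  S.idx S.inj le_rfl (by decide) orbZ.1

variable (hu : ¬ IsConj (F z0) (F y0))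
include hu

theorem wzU : WC F.range (F z0) := S.wcz le_rfl S.idxU fun i hi e => by
  interval_cases i
  exacts [⟨1, one_mem _, show 1 * F z0 * 1⁻¹ = F z0 by group⟩, absurd e hu, absurd e S.nz.1, absurd e S.nz.2.1, absurd e S.nz.2.2,
    absurd e (S.nz5 hu)]

theorem wvU {v : X} (hv : v ∈ K0) : WC F.range (F v) := (S.wzU hu).of_hc (conj_map F (cls0.mpr hv))

theorem centY : centralizer {F y0} ≤ F.range := by
  obtain ⟨N, _, hf⟩ := exists_cq (S.ord (x := y0) (by decide +kernel))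
  have e := fun a b => res_eq S.inj hf (a := a) (b := b)
  generalize QuotientGroup.mk' N = f at *
  let z := mc z0 (by decide +kernel : Cm z0 y0)
  let w := mc w0 (by decide +kernel : Cm w0 y0)
  let b := mc b0 (by decide +kernel : Cm b0 y0)
  let τ := mc (t0 * u0) (by decide +kernel : Cm (t0 * u0) y0)
  have oz : orderOf (f.comp (res F y0) z) = 3 := orderOf_eq_prime
    (by rw [← map_pow, ← map_one (f.comp (res F y0)), e]; decide +kernel) (by rw [← map_one (f.comp (res F y0)), Ne, e]; decide +kernel)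
  have h1 : ∀ g ∈ (f.comp (res F y0)).range, g * f.comp (res F y0) z * g⁻¹ = f.comp (res F y0) z ∨
      g * f.comp (res F y0) z * g⁻¹ = (f.comp (res F y0) z)⁻¹ := by
    rintro _ ⟨k, rfl⟩
    rw [← map_inv, ← map_inv, ← map_mul, ← map_mul]
    exact (nzs.2.2.1 k (mem_centralizer_singleton_iff.mp k.2)).imp (fun e => congrArg _ (Subtype.ext e))
      fun e => congrArg _ (Subtype.ext e)
  refine res_top S.inj hf (yq oz ⟨z, rfl⟩ (MonoidHom.mem_range.mpr ⟨w, rfl⟩) (map_cm _ (by decide +kernel))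
    (by rw [res_zp S.inj hf oz]; decide +kernel) (fun v hv v2 => ?_) (τ := f.comp (res F y0) τ)
    (by rw [← map_mul, ← map_one (f.comp (res F y0)), e]; decide +kernel)
    (by rw [← map_inv, ← map_inv, ← map_mul, ← map_mul, e]; decide +kernel) (b := f.comp (res F y0) b)
    (map_cm _ (by decide +kernel)) (by rw [← map_inv, ← map_inv, ← map_mul, ← map_mul, e]; decide +kernel)
    (by rw [res_zp S.inj hf oz]; decide +kernel) h1 fun g hg => ?_)
  · obtain ⟨i, hi, j, hj, rfl⟩ := G23.mem_pair (by rw [← map_pow, ← map_one (f.comp (res F y0)), e]; decide +kernel)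
      (oz ▸ pow_orderOf_eq_one _) (map_cm _ (by decide +kernel)) hv
    rw [← map_pow, ← map_pow, ← map_mul] at v2 ⊢
    exact res_wc S.inj hf (S.wvU hu ((v1.2.2.2.2 i hi j hj).resolve_left fun e =>
      v2 (by rw [show w ^ i * z ^ j = 1 from Subtype.ext e, map_one])))
  · obtain ⟨k, rfl⟩ := (res_wc S.inj hf (a := z) (S.wzU hu)).cent ⟨z, rfl⟩ hg
    have h2 : k.1 ∈ LC := orbZ.2.2 _ (cm_of_cj ((nzs.2.2.1 k (mem_centralizer_singleton_iff.mp k.2)).resolve_right
      fun e' => by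
        have := cj_of_cm hg
        rw [← map_inv, ← map_mul, ← map_mul, show k * z * k⁻¹ = z⁻¹ from Subtype.ext e', e] at this
        revert this
        decide +kernel))
    obtain ⟨a1, a2, a3, a4⟩ := yf _ h2 (mem_centralizer_singleton_iff.mp k.2)
    simp only [← map_inv, ← map_mul, ← map_pow, e, res_zp S.inj hf oz]
    exact ⟨by rw [show k ^ 3 = 1 from Subtype.ext a1, map_one], a2, a3, a4⟩

theorem wyU {v : X} (hv : v ∈ K1) : WC F.range (F v) :=
  (wc_of_cent (S.wzU hu) S.idxU S.R.y3 (S.centY hu)).of_hc (conj_map F (cjs_conj _ (K1_eq ▸ hv)))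

theorem centD2 : centralizer {F (s0 * b0)} ≤ F.range := by
  refine npc3 (IsPGroup.of_card (n := 3) (S.card_cz _ (by decide +kernel)))
    (mem_centralizer_singleton_iff.mpr (map_cm F (by decide +kernel))) S.H.oz (fun g hg h => ?_)
    (mem_centralizer_singleton_iff.mpr (map_cm F (by decide +kernel : y0 * (s0 * b0) = _))) S.R.yz S.R.y3
    (by rw [zp_iff S.inj S.H.oz]; decide +kernel) fun x hx x1 g hg => ?_
  · obtain ⟨k, rfl⟩ := S.wzU hu g (S.czr (mem_centralizer_singleton_iff.mpr h))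
    have h1 := cm_map S.inj (mem_centralizer_singleton_iff.mp hg)
    refine map_cm F (LC_cm _ ((nzs.2.1.mem h1 (by decide +kernel : Iv u0 z0)).resolve_right fun e => ?_))
    refine (by decide +kernel : ∀ c ∈ LC, ¬ E [c, u0, s0 * b0] [s0 * b0, c, u0]) _ e ?_
    simpa [E, mul_assoc, ← mul_assoc u0 u0, (by decide +kernel : u0 * u0 = 1)] using h1
  · obtain ⟨i, hi, j, hj, rfl⟩ := G23.mem_pair S.R.z3 S.R.y3 S.R.yz.symm (Set.pair_comm _ _ ▸ hx)
    rw [← map_pow, ← map_pow, ← map_mul] at x1 hg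
    refine WC.cent ?_ (F.mem_range.mpr ⟨_, rfl⟩) (mem_centralizer_singleton_iff.mp hg)
    rcases d2f i hi j hj with e | e | e | e
    exacts [absurd (e ▸ map_one F) x1, e.symm ▸ S.wzU hu, e.symm ▸ S.wvU hu (by decide +kernel : Mem z0⁻¹ K0),
      S.wyU hu e.1]

end St

end Cfsg.Agent.L43
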