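import Cfsg.Agent.L43.U1

/-! The case without further fusion: the remaining classes of elements of order three. -/

set_option autoImplicit false
set_option linter.unusedSectionVars false
set_option maxRecDepth 100000
set_option synthInstance.maxSize 4000

namespace Cfsg.Agent.L43

open Subgroup Cfsg.Agent.Local Cfsg.Agent.Mat Cfsg.Agent.HSR Cfsg.Agent.Char Cfsg.Agent.Char.A9

attribute [local irreducible] cmul cinv msM msK

variable {G : Type*} [Group G] [Finite G] {Q : Subgroup G} {φ : G → SL23} {F : X →* G}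

/-- Facts on a non-singular element of the Thompson subgroup. -/
def PF (x z c : X) : Prop :=
  (C3 x ∧ x ≠ 1) ∧ (Cm z x ∧ Cm w0 x ∧ Cm s0 x ∧ Cm c x ∧ Cm (t0 * u0) x ∧ Cm z0 x) ∧
  (¬ Mem (z * 1⁻¹) (P3 x) ∧ C3 z ∧ C3 c ∧ Cm z w0 ∧ Cm z s0 ∧ Cm c z ∧ c * w0 * c⁻¹ = z * w0 ∧
    Mem (c * s0 * c⁻¹ * (z * w0⁻¹ * s0)⁻¹) (P3 x) ∧ Iv (t0 * u0) z ∧ Iv (t0 * u0) c) ∧
  (LC.filter fun c => decide (Cm c x)).length = 3 ^ 5 ∧ (∀ v ∈ P3 x, ¬ Iv v z0) ∧
  ∀ k ∈ LC, Cm k x → Mem k (mulL (mulL (mulL (mulL (P3 x) (P3 z)) (P3 w0)) (P3 s0)) (P3 c)) ∧ (Mem k (P3 x) ∨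
    (∃ e ∈ [k, k * x, k * x⁻¹, k ^ 3], Mem e K0 ∨ Mem e K1 ∨ Mem e K4 ∨ Mem e K5) ∨
    Cm w0 k ∧ ∀ c ∈ LC, Cm c x → ¬ E [c, t0 * u0, k] [k, c, t0 * u0])

theorem pf1 : PF (w0 * y0) z0⁻¹ (a0 * b0) := by unfold PF; decide +kernel

theorem pf2 : PF (w0 * y0⁻¹) z0 (a0 * b0⁻¹) := by unfold PF; decide +kernel

theorem tf : C2 (t0 * u0) ∧ Iv (t0 * u0) z0 ∧ Cm (t0 * u0) w0 ∧ Iv (t0 * u0) s0 ∧ Cm w0 s0 ∧ C3 w0 ∧ C3 s0 := by
  decide +kernel

namespace St

variable (S : St Q φ F) (hu : ¬ IsConj (F z0) (F y0))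
include S

theorem c3 {x : X} (h : C3 x) : F x ^ 3 = 1 := by rw [← map_pow, h, map_one]

include hu

theorem centA {x z c k : X} (h : PF x z c) (nz : NZ x) (hk : k ∈ LC) (kx : Cm k x) (k1 : k ∉ P3 x) :
    centralizer {F x} ⊓ centralizer {F k} ≤ F.range := by
  obtain ⟨-, a1, -, a2, -, a3⟩ := h
  rcases (a3 k hk kx).2 with e | ⟨e, h1, h2⟩ | ⟨h1, h2⟩
  · exact absurd e k1
  · intro g hg
    have b1 := mem_centralizer_singleton_iff.mp hg.1
    have b2 := mem_centralizer_singleton_iff.mp hg.2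
    refine WC.cent (x := F e) ?_ (F.mem_range.mpr ⟨e, rfl⟩) ?_
    · rcases h2 with h2 | h2 | h2 | h2
      exacts [S.wvU hu h2, S.wyU hu h2, (wc_of_cent (S.wzU hu) S.idxU (S.c3 (by decide +kernel))
        S.centD).of_hc (conj_map F (cjs_conj _ (K4_eq ▸ h2))), (wc_of_cent (S.wzU hu) S.idxU
          (S.c3 (by decide +kernel)) (S.centD2 hu)).of_hc (conj_map F (cjs_conj _ (K5_eq ▸ h2)))]
    · simp only [List.mem_cons, List.not_mem_nil, or_false] at h1
      rcases h1 with rfl | rfl | rfl | rfl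
      exacts [b2, by rw [map_mul]; exact (cm_mul b2.symm b1.symm).symm,
        by rw [map_mul, map_inv]; exact (cm_mul b2.symm (cm_inv b1.symm)).symm,
        by rw [map_pow]; exact (cm_pow b2.symm 3).symm]
  · refine npc3 ((IsPGroup.of_card (S.card_cz x a2)).to_le (inf_le_inf_right _ inf_le_left))
      (mem_inf.mpr ⟨mem_centralizer_singleton_iff.mpr (map_cm F a1.2.2.2.2.2),
        mem_centralizer_singleton_iff.mpr (map_cm F (LC_cm k hk)).symm⟩) S.H.oz (fun g hg h => ?_)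
      (mem_inf.mpr ⟨mem_centralizer_singleton_iff.mpr (map_cm F a1.2.1), mem_centralizer_singleton_iff.mpr
        (map_cm F h1)⟩) S.R.wz S.R.w3 (S.R.w1 S.H) fun x hx x1 => ?_
    · obtain ⟨j, rfl⟩ := S.wzU hu g (S.czr (mem_centralizer_singleton_iff.mpr h))
      have b1 := cm_map S.inj (mem_centralizer_singleton_iff.mp hg.1)
      refine map_cm F (LC_cm _ ((nz.mem b1 tf.2.1).resolve_right fun e => h2 _ e (cm_mul b1 a1.2.2.2.2.1) ?_))
      rw [E, List.prod_cons, List.prod_cons, List.prod_singleton, List.prod_cons, List.prod_cons, List.prod_singleton,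
        ← mul_assoc, mul_assoc j, tf.1, mul_one]
      exact cm_map S.inj (mem_centralizer_singleton_iff.mp hg.2)
    · obtain ⟨v, hv, rfl⟩ := S.cwz hx x1
      exact S.cvr hv

theorem centP {x z c : X} (h : PF x z c) (nz : NZ x) : centralizer {F x} ≤ F.range := by
  have h' := h
  obtain ⟨a0, ⟨a1, a2, a3, a4, a5, a6⟩, ⟨b1, b2, b3, b4, b5, b6, b7, b8, b9, b10⟩, -, c1, c2⟩ := h'
  obtain ⟨N, _, hf⟩ := exists_cq (S.ord a0)
  have e := fun a b => res_eq S.inj hf (a := a) (b := b)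
  generalize QuotientGroup.mk' N = f at *
  have e1 : ∀ {a b : centralizer ({x} : Set X)}, a.1 = b.1 → f.comp (res F x) a = f.comp (res F x) b :=
    fun e => congrArg _ (Subtype.ext e)
  have e3 : ∀ {a : centralizer ({x} : Set X)}, C3 a.1 → f.comp (res F x) a ^ 3 = 1 := fun e => by
    rw [← map_pow, ← map_one (f.comp (res F x))]; exact e1 e
  have h1 : closure {f.comp (res F x) (mc z a1), f.comp (res F x) (mc w0 a2), f.comp (res F x) (mc s0 a3),
      f.comp (res F x) (mc c a4), f.comp (res F x) (mc (t0 * u0) a5)} = (f.comp (res F x)).range := by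
    refine le_antisymm ((closure_le _).mpr (by rintro _ (rfl | rfl | rfl | rfl | rfl) <;> exact ⟨_, rfl⟩)) ?_
    generalize hK : Subgroup.closure {f.comp (res F x) (mc z a1), f.comp (res F x) (mc w0 a2),
      f.comp (res F x) (mc s0 a3), f.comp (res F x) (mc c a4), f.comp (res F x) (mc (t0 * u0) a5)} = K
    have h2 : ∀ a : centralizer ({x} : Set X), f.comp (res F x) a ∈ K ↔
        MonoidHom.id X a ∈ (K.comap (f.comp (res F x))).map (Subgroup.subtype _) :=
      fun a => ⟨fun h => ⟨a, h, rfl⟩, fun ⟨b, h, e⟩ => (Subtype.ext e : b = a) ▸ h⟩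
    have h3 := ((((In.P3 ((h2 (mc x rfl)).mp (((e (mc x rfl) 1).mpr (by simp [P3, mc])).trans (map_one _) ▸
      one_mem K))).mulL (.P3 ((h2 (mc z a1)).mp (hK.le (Subgroup.subset_closure (by simp)))))).mulL
      (.P3 ((h2 (mc w0 a2)).mp (hK.le (Subgroup.subset_closure (by simp)))))).mulL
      (.P3 ((h2 (mc s0 a3)).mp (hK.le (Subgroup.subset_closure (by simp)))))).mulL
      (.P3 ((h2 (mc c a4)).mp (hK.le (Subgroup.subset_closure (by simp)))))
    rintro _ ⟨k, rfl⟩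
    have hk := mem_centralizer_singleton_iff.mp k.2
    rcases nz.mem hk tf.2.1 with e | e
    · exact (h2 k).mpr (h3 _ (c2 _ e hk).1)
    · refine (K.mul_mem_cancel_right (show f.comp (res F x) (mc (t0 * u0) a5) ∈ K from
        hK.le (Subgroup.subset_closure (by simp)))).mp ?_
      rw [← map_mul]
      exact (h2 _).mpr (h3 _ (c2 _ e (cm_mul hk a5)).1)
  refine res_top S.inj hf (h1 ▸ se162 (by rwa [← map_one (f.comp (res F x)), Ne, e]) (e3 b2) (e3 tf.2.2.2.2.2.1) (e3 tf.2.2.2.2.2.2) (e3 b3)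
    (by rw [← map_mul, ← map_one (f.comp (res F x))]; exact e1 tf.1)
    (map_cm _ (Subtype.ext b4)) (map_cm _ (Subtype.ext b5)) (map_cm _ (Subtype.ext tf.2.2.2.2.1))
    (map_cm _ (Subtype.ext b6)) (by simp only [← map_inv, ← map_mul]; exact e1 b7)
    (by simp only [← map_inv, ← map_mul]; exact (e _ _).mpr b8) (by simp only [← map_inv, ← map_mul]; exact e1 b9)
    (map_cm _ (Subtype.ext tf.2.2.1)) (by simp only [← map_inv, ← map_mul]; exact e1 tf.2.2.2.1)
    (by simp only [← map_inv, ← map_mul]; exact e1 b10) ?_)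
  rw [h1]
  have h2 : ∀ k, orderOf (f.comp (res F x) k) = 3 → k.1 ∈ LC := fun k hk => orbZ.2.2 _ (cm_of_cj
    ((nz k (mem_centralizer_singleton_iff.mp k.2)).resolve_right fun e' => c1 _ ((e (k ^ 3) 1).mp (by
      rw [map_pow, ← hk, pow_orderOf_eq_one, map_one])) (by
        simp only [Iv, coe_mul, coe_one, inv_one, mul_one, pow_three', cj_mul, e', cj_inv e', inv_inv])))
  rintro _ ⟨k, rfl⟩ o g ⟨k', hk⟩
  obtain ⟨g, rfl⟩ := hf.surj g
  have h3 := h2 k' (by rw [hk, Local.orderOf_conj', o])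
  rw [MonoidHom.comp_apply, MonoidHom.comp_apply, ← map_inv, ← map_mul, ← map_mul, hf.eq_iff] at hk
  have h4 := cm_zp (map_cm F a6) hk
  refine (res_mem S.inj hf).mpr (inv_mem_iff.mp (S.wzU hu _ (S.centA hu h nz (h2 k o)
    (mem_centralizer_singleton_iff.mp k.2) (fun e' => ?_) (mem_inf.mpr ⟨mem_centralizer_singleton_iff.mpr ?_,
      mem_centralizer_singleton_iff.mpr ?_⟩))))
  · rw [(e k 1).mpr (by simpa using e'), map_one, orderOf_one] at o
    exact absurd o (by decide)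
  · have := mem_centralizer_singleton_iff.mp g.2
    exact cm_mul (cm_mul (cm_inv this) (map_cm F a6)) (cm_inv (cm_inv this))
  · have h5 := cm_mul (cm_inv h4.symm) (map_cm F (LC_cm _ h3))
    simp only [coe_mul, coe_inv, res_val, mul_inv_rev, inv_inv, inv_mul_cancel_right] at h5
    calc _ = g.1⁻¹ * (F z0 * (g * F k * g.1⁻¹)) * g := by group
      _ = _ := by rw [← h5]; group

theorem allU : ∀ u ∈ F.range, orderOf u = 3 → WC F.range u := S.all3 le_rfl S.idxU (S.wzU hu) fun i hi => by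
  interval_cases i
  exacts [S.czr, S.centY hu, S.centP hu pf1 nzs.2.2.2.1, S.centP hu pf2 nzs.2.2.2.2, S.centD, S.centD2 hu]

end St

end Cfsg.Agent.L43
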