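import Cfsg.Agent.L43.U2

/-! The case without further fusion: the group is the parabolic subgroup. -/

set_option autoImplicit false
set_option linter.unusedSectionVars false
set_option maxRecDepth 100000
set_option synthInstance.maxSize 4000

namespace Cfsg.Agent.L43

open Subgroup Cfsg.Agent.Local Cfsg.Agent.Mat Cfsg.Agent.HSR Cfsg.Agent.Char

attribute [local irreducible] cmul cinv msM msK

variable {G : Type*} [Group G] [Finite G] {Q : Subgroup G} {φ : G → SL23} {F : X →* G}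

/-- A Sylow subgroup of the centraliser of an involution. -/
def P9 : Subgroup X := subOf (mulL (P3 z0) (P3 s0)) (by decide +kernel)
  (by decide +kernel : ∀ a ∈ mulL (P3 z0) (P3 s0), ∀ b ∈ mulL (P3 z0) (P3 s0), Mem (a * b⁻¹) (mulL (P3 z0) (P3 s0)))

theorem p9 : (∀ a ∈ mulL (P3 z0) (P3 s0), C3 a ∧ Cm a t0 ∧ Iv u0 a ∧ ∀ b ∈ mulL (P3 z0) (P3 s0), Cm a b) ∧
    Mem z0 (mulL (P3 z0) (P3 s0)) ∧ Mem s0 (mulL (P3 z0) (P3 s0)) ∧ ¬ Mem s0 (P3 z0) := by decide +kernel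

theorem tx1 : ∀ k ∈ LTX, Mem (k * z0 * k⁻¹) (mulL (P3 z0) (P3 s0)) → Mem (k * s0 * k⁻¹) (mulL (P3 z0) (P3 s0)) →
    Mem (k * k) (mulL (P3 z0) (P3 s0)) ∧ ∀ x ∈ mulL (P3 z0) (P3 s0), k⁻¹ * x * k = x ∨ k⁻¹ * x * k = x⁻¹ := by
  decide +kernel

theorem invX {i : X} (h : i * i = 1) (i1 : i ≠ 1) : IsConj t0 i := by
  obtain ⟨g, -, h1⟩ := exists_conj_mem (le_top : centralizer {t0} ≤ ⊤) Nat.prime_two (a := 1053) (by decide)
    (by rw [card_top, orbT.2.1, orbT.1]) (mem_top i) ((pow_two i).trans h)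
  rcases (by decide +kernel : ∀ c ∈ LTX, C2 c → c = 1 ∨ Mem c (cjs t0 [[], [16, 18], [16, 18, 2], [16, 19, 2], [11, 16, 18], [11, 16, 18, 2], [11, 16, 19, 2], [10, 16, 18], [10, 16, 18, 2], [10, 16, 19, 2], [18], [18, 2], [19, 2], [19, 4], [18, 5, 2], [19, 4, 2], [18, 4], [18, 4, 2], [19, 5, 2], [10, 16, 19, 4], [10, 16, 18, 5, 2], [10, 16, 19, 4, 2], [11, 16, 18, 4], [11, 16, 18, 4, 2], [11, 16, 19, 5, 2], [16, 19, 4], [16, 18, 5, 2], [16, 19, 4, 2], [10, 16, 18, 4], [10, 16, 18, 4, 2], [10, 16, 19, 5, 2], [11, 16, 19, 4], [11, 16, 18, 5, 2], [11, 16, 19, 4, 2], [16, 18, 4], [16, 18, 4, 2], [16, 19, 5, 2]]))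
    _ (orbT.2.2 _ (mem_centralizer_singleton_iff.mp h1)) (by
      rw [C2, show g⁻¹ * i * g * (g⁻¹ * i * g) = g⁻¹ * (i * i) * g by group, h]; group) with e | e
  · exact absurd (by rw [← mul_left_cancel_iff (a := g⁻¹), ← mul_right_cancel_iff (a := g), e]; group) i1
  · exact (cjs_conj _ e).trans (isConj_iff.mpr ⟨g, by group⟩)

namespace St

variable (S : St Q φ F)
include S

theorem rank2 {H K : Subgroup G} (le : F.range ≤ H) (h3 : ∀ u ∈ H, orderOf u = 3 → WC H u) (hK : ¬ 3 ∣ Nat.card K)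
    (hN : centralizer {F t0} ≤ normalizer (K : Set G)) : K ≤ H :=
  le_of_centralizer_le_of_rank_two Nat.prime_three (hN (mem_centralizer_singleton_iff.mpr S.R.ts.symm))
    (hN (mem_centralizer_singleton_iff.mpr S.R.tz.symm)) S.R.sz S.R.s3 S.H.oz
    (fun e => p9.2.2.2 ((zp_iff S.inj S.H.oz).mp e)) hK fun e he e1 g hg => by
      have h1 : e ∈ H := (closure_le H).mpr (by rintro _ (rfl | rfl) <;> exact le ⟨_, rfl⟩) he
      exact (h3 e h1 (orderOf_eq_prime (cube_of_mem_closure S.R.s3 S.R.z3 S.R.sz he) e1)).cent h1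
        (mem_centralizer_singleton_iff.mp hg.2)

theorem mem9 {x : X} : F x ∈ P9.map F ↔ x ∈ mulL (P3 z0) (P3 s0) := mem_map_iff_mem S.inj

variable (hu : ¬ IsConj (F z0) (F y0))
include hu

theorem centT : centralizer {F t0} ≤ F.range := by
  have h1 : ∀ g ∈ normalizer (P9.map F : Set G), g ∈ F.range := fun g hg =>
    S.wzU hu g (map_le_range F _ (conj_mem_of_mem_normalizer hg (S.mem9.mpr p9.2.1)))
  have h2 : ∀ g ∈ centralizer {F t0}, g ∈ normalizer (P9.map F : Set G) → g * g ∈ P9.map F ∧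
      ∀ x ∈ P9.map F, g⁻¹ * x * g = x ∨ g⁻¹ * x * g = x⁻¹ := fun g hg hn => by
    obtain ⟨k, rfl⟩ := h1 g hn
    obtain ⟨a1, a2⟩ := tx1 k (orbT.2.2 k (cm_map S.inj (mem_centralizer_singleton_iff.mp hg)))
      (S.mem9.mp (by simpa using conj_mem_of_mem_normalizer hn (S.mem9.mpr p9.2.1)))
      (S.mem9.mp (by simpa using conj_mem_of_mem_normalizer hn (S.mem9.mpr p9.2.2.1)))
    refine ⟨map_mul F k k ▸ S.mem9.mpr a1, ?_⟩
    rintro _ ⟨x, hx, rfl⟩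
    simp only [← map_inv, ← map_mul]
    exact (a2 x hx).imp (congrArg F) (congrArg F)
  have h3 : ∀ x ∈ P9.map F, x ^ 3 = 1 := by rintro _ ⟨x, hx, rfl⟩; exact S.c3 (p9.1 x hx).1
  obtain ⟨K, -, k1, k2, k3, -⟩ := G23.st_main (G23.syl3 (H := centralizer {F t0}) (by
      rintro _ ⟨x, hx, rfl⟩
      exact mem_centralizer_singleton_iff.mpr (map_cm F (p9.1 x hx).2.1)) (fun x => ⟨1, Subtype.ext (h3 x x.2)⟩)
      fun g a b => (h2 g a b).1)
    (by rintro _ ⟨x, hx, rfl⟩ _ ⟨y, hy, rfl⟩; exact map_cm F ((p9.1 x hx).2.2.2 y hy)) h3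
    (not_le.mp fun e => p9.2.2.2 ((zp_iff S.inj S.H.oz).mp ((eq_of_le_of_card_ge (zpowers_le.mpr (S.mem9.mpr p9.2.1))
      (by rwa [Nat.card_zpowers, S.H.oz])).ge (S.mem9.mpr p9.2.2.1)))) (fun g a b => (h2 g a b).2)
    (mem_centralizer_singleton_iff.mpr S.R.ut) (by
      rintro _ ⟨x, hx, rfl⟩
      simp only [← map_inv, ← map_mul]
      exact congrArg F (p9.1 x hx).2.2.1)
  intro g hg
  obtain ⟨k, a1, a2⟩ := k3 g hg
  exact (F.range.mul_mem_cancel_left (inv_mem (S.rank2 le_rfl (S.allU hu) k2 (le_normalizer.trans k1) a1))).mp (h1 _ a2)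

theorem topU : Nonempty (G ≃* X) := by
  have h1 : ∀ i : X, i * i = 1 → i ≠ 1 → WC F.range (F i) := fun i a1 a2 =>
    (P43.wc_of_i1 (S.allU hu) S.R.tt (S.centT hu) (by
      rintro _ ⟨i, rfl⟩ e
      by_cases a : i = 1
      · exact ⟨_, ⟨z0, rfl⟩, S.H.oz, by simp [a]⟩
      obtain ⟨k, rfl⟩ := isConj_iff.mp (invX (S.inj (by rw [map_mul, e, map_one])) a)
      exact ⟨_, ⟨k * z0 * k⁻¹, rfl⟩, by simpa [Local.orderOf_conj'] using S.H.oz, map_cm F (by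
        rw [conj_mul, conj_mul, (by decide +kernel : t0 * z0 = z0 * t0)])⟩)).of_hc (conj_map F (invX a1 a2))
  have h2 : ∀ a, IsConj t0 a → a * a = 1 ∧ a ≠ 1 := fun a h => by
    obtain ⟨k, rfl⟩ := isConj_iff.mp h
    exact ⟨by rw [conj_mul, (by decide +kernel : t0 * t0 = 1)]; group,
      fun e => absurd (conj_eq_one_iff.mp e) (by decide +kernel)⟩
  have h3 : F.range = ⊤ := eq_top_iff.mpr (P43.delta (Δ := F '' {a | IsConj t0 a}) (S.allU hu) (by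
      rintro _ ⟨a, ha, rfl⟩
      exact ⟨⟨a, rfl⟩, mem_top _, by rw [← map_mul, (h2 a ha).1, map_one], h1 a (h2 a ha).1 (h2 a ha).2⟩) (by
      rintro _ ⟨a, ha, rfl⟩ _ ⟨k, rfl⟩ -
      exact ⟨k * a * k⁻¹, ha.trans (isConj_iff.mpr ⟨k, rfl⟩), by simp⟩) ⟨t0, IsConj.refl _, rfl⟩ (by
      rintro _ ⟨a, ha, rfl⟩ _ ⟨b, hb, rfl⟩ hab e g - - - h4 -
      refine inv_mem_iff.mp (h1 (a * b) ?_ (fun e' => hab (congrArg F ?_)) _ (by rwa [map_mul, inv_inv]))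
      · rw [mul_assoc, ← mul_assoc b, ← cm_map S.inj e, mul_assoc, (h2 b hb).1, mul_one, (h2 a ha).1]
      · rw [eq_inv_of_mul_eq_one_left e', inv_eq_of_mul_eq_one_right (h2 b hb).1])
    ⟨a0 * s0 * b0, rfl⟩ (mem_top _) (by rw [← map_pow, (by decide +kernel : (a0 * s0 * b0) ^ 9 = 1), map_one]) (by
      rintro _ ⟨a, ha, rfl⟩ e
      have h4 := cm_map S.inj e
      exact (h2 a ha).2 ((by decide +kernel : ∀ c ∈ LC, C2 c → Cm (a0 * s0 * b0) c → c = 1) a (orbZ.2.2 a (by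
        rw [← (by decide +kernel : (a0 * s0 * b0) ^ 3 = z0), cm_pow h4]))  (h2 a ha).1 h4)))
  exact ⟨(MulEquiv.ofBijective F ⟨S.inj, MonoidHom.range_eq_top.mp h3⟩).symm⟩

end St

end Cfsg.Agent.L43
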